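import Cfsg.Agent.H356.Crit

/-!
# Diagonal elements modulo scalars (helper356)
-/

set_option autoImplicit false

namespace Cfsg.Agent.H356.Diag

open Matrix Subgroup Cfsg.Agent.H356.CommSup

/-- `H` is a group of matrices whose centre consists of the scalar matrices in `H` -/
structure Lin {F : Type*} [Field F] {n : ℕ} (H : Type*) [Group H] (ι : H →* Matrix (Fin n) (Fin n) F) : Prop where
  inj : Function.Injective ι
  cen : ∀ z ∈ center H, ∃ r : F, ι z = diagonal fun _ => r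
  sc : ∀ (z : H) (r : F), ι z = (diagonal fun _ => r) → z ∈ center H

variable {F : Type*} [Field F] {n : ℕ} {H : Type*} [Group H] {ι : H →* Matrix (Fin n) (Fin n) F}

/-- `h` is the diagonal matrix with entries `t` -/
def Dg (ι : H →* Matrix (Fin n) (Fin n) F) (h : H) (t : Fin n → F) : Prop := ι h = diagonal t

theorem Dg.mul {h h' : H} {t t' : Fin n → F} (hd : Dg ι h t) (hd' : Dg ι h' t') : Dg ι (h * h') (t * t') := by
  unfold Dg at *
  rw [map_mul, hd, hd', diagonal_mul_diagonal]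
  rfl

theorem Dg.pow {h : H} {t : Fin n → F} (hd : Dg ι h t) (k : ℕ) : Dg ι (h ^ k) (t ^ k) := by
  unfold Dg at *
  rw [map_pow, hd, diagonal_pow]

theorem Dg.comm (L : Lin H ι) {h h' : H} {t t' : Fin n → F} (hd : Dg ι h t) (hd' : Dg ι h' t') :
    h * h' = h' * h := by
  apply L.inj
  rw [map_mul, map_mul, hd, hd', diagonal_mul_diagonal, diagonal_mul_diagonal]
  congr 1
  funext i
  exact mul_comm _ _

theorem Dg.eq_of_scalar (L : Lin H ι) {h : H} {t : Fin n → F} (hd : Dg ι h t) (hc : h ∈ center H) (i j : Fin n) :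
    t i = t j := by
  obtain ⟨r, hr⟩ := L.cen h hc
  have h1 : diagonal t = diagonal fun _ => r := hd.symm.trans hr
  have h2 := congrFun (diagonal_injective h1)
  rw [h2 i, h2 j]

theorem Dg.mem_center (L : Lin H ι) {h : H} {t : Fin n → F} (hd : Dg ι h t) {r : F} (hr : ∀ i, t i = r) :
    h ∈ center H := by
  refine L.sc h r ?_
  rw [hd]
  congr 1
  funext i
  exact hr i

/-- `b^i` and `c^j` equal modulo the centre -/
theorem Dg.eq_mul (L : Lin H ι) {b c : H} {s t : Fin n → F} (hb : Dg ι b s) (hc : Dg ι c t)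
    (h : (QuotientGroup.mk' (center H)) b = (QuotientGroup.mk' (center H)) c) :
    ∃ r : F, ∀ i, s i = t i * r := by
  have h1 : c⁻¹ * b ∈ center H := by
    have := (QuotientGroup.eq (s := center H) (a := c) (b := b)).1 h.symm
    exact this
  obtain ⟨r, hr⟩ := L.cen _ h1
  refine ⟨r, fun i => ?_⟩
  have h2 : ι b = ι c * ι (c⁻¹ * b) := by
    rw [← map_mul, mul_inv_cancel_left]
  rw [hr, hb, hc, diagonal_mul_diagonal] at h2
  exact congrFun (diagonal_injective h2) i

/-- the torus of `L₃^ε(q)` when 9 divides `q - ε` -/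
theorem exists_nine [Finite H] {ι : H →* Matrix (Fin 3) (Fin 3) F} (L : Lin H ι) {ζ : F} (h9 : orderOf ζ = 9)
    {b c : H} (hb : Dg ι b ![1, ζ, ζ ^ 8]) (hc : Dg ι c ![ζ, ζ, ζ ^ 7]) :
    ∃ A : Subgroup (H ⧸ center H), (∀ a ∈ A, ∀ b ∈ A, a * b = b * a) ∧ Nat.card A = 27 ∧
      ∃ a ∈ A, orderOf a = 9 := by
  set π := QuotientGroup.mk' (center H) with hπ
  have hz9 : ζ ^ 9 = 1 := h9 ▸ pow_orderOf_eq_one ζ
  have hz0 : ζ ≠ 0 := by
    rintro rfl
    norm_num at hz9
  have hker : ∀ h : H, π h = 1 ↔ h ∈ center H := fun h => QuotientGroup.eq_one_iff h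
  have hb9 : orderOf (π b) = 9 := by
    apply Nat.dvd_antisymm
    · refine orderOf_dvd_of_pow_eq_one ?_
      rw [← map_pow, hker]
      refine (hb.pow 9).mem_center L (r := 1) ?_
      intro i
      fin_cases i
      · simp
      · simp [hz9]
      · simp only [Pi.pow_apply]
        change (ζ ^ 8) ^ 9 = 1
        rw [← pow_mul, mul_comm, pow_mul, hz9, one_pow]
    · have h1 : π (b ^ orderOf (π b)) = 1 := by rw [map_pow, pow_orderOf_eq_one]
      rw [hker] at h1
      have h2 := (hb.pow _).eq_of_scalar L h1 0 1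
      rw [← h9]
      refine orderOf_dvd_of_pow_eq_one ?_
      simpa using h2.symm
  have hc3 : orderOf (π c) = 3 := by
    refine orderOf_eq_prime ?_ ?_
    · rw [← map_pow, hker]
      refine (hc.pow 3).mem_center L (r := ζ ^ 3) ?_
      intro i
      fin_cases i
      · simp
      · simp
      · simp only [Pi.pow_apply]
        change (ζ ^ 7) ^ 3 = ζ ^ 3
        rw [← pow_mul, show 7 * 3 = 9 * 2 + 3 by norm_num, pow_add, pow_mul, hz9, one_pow, one_mul]
    · rw [Ne, hker]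
      intro h1
      have h2 := hc.eq_of_scalar L h1 1 2
      change ζ = ζ ^ 7 at h2
      have h3 : ζ ^ 6 = 1 := by
        have : ζ * ζ ^ 6 = ζ * 1 := by
          rw [mul_one, ← pow_succ']
          exact h2.symm
        exact mul_left_cancel₀ hz0 this
      have h4 := orderOf_dvd_of_pow_eq_one h3
      rw [h9] at h4
      exact absurd (Nat.le_of_dvd (by norm_num) h4) (by norm_num)
  have hbc : π b * π c = π c * π b := by rw [← map_mul, ← map_mul, hb.comm L hc]
  have hzz : ∀ {w : H ⧸ center H}, ∀ a ∈ zpowers w, ∀ b ∈ zpowers w, a * b = b * a := by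
    intro w a ha b hb
    obtain ⟨i, rfl⟩ := mem_zpowers_iff.1 ha
    obtain ⟨j, rfl⟩ := mem_zpowers_iff.1 hb
    rw [← _root_.zpow_add, ← _root_.zpow_add, add_comm]
  have hcp : ∀ a ∈ zpowers (π b), ∀ d ∈ zpowers (π c), a * d = d * a := by
    intro a ha d hd
    obtain ⟨i, rfl⟩ := mem_zpowers_iff.1 ha
    obtain ⟨j, rfl⟩ := mem_zpowers_iff.1 hd
    exact (Commute.zpow_zpow hbc i j)
  have hdis : Disjoint (zpowers (π b)) (zpowers (π c)) := by
    rw [Subgroup.disjoint_def]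
    intro a ha hd
    rw [← mem_powers_iff_mem_zpowers] at ha hd
    obtain ⟨i, rfl⟩ := Submonoid.mem_powers_iff _ _ |>.1 ha
    obtain ⟨j, hj⟩ := Submonoid.mem_powers_iff _ _ |>.1 hd
    have h1 : π (b ^ i) = π (c ^ j) := by rw [map_pow, map_pow, hj]
    obtain ⟨r, hr⟩ := Dg.eq_mul L (hb.pow i) (hc.pow j) h1
    have h2 := hr 0
    have h3 := hr 1
    simp only [Pi.pow_apply] at h2 h3
    change (1 : F) ^ i = ζ ^ j * r at h2
    change ζ ^ i = ζ ^ j * r at h3
    rw [← h2, one_pow] at h3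
    have h4 := orderOf_dvd_of_pow_eq_one h3
    rw [h9, ← hb9] at h4
    exact orderOf_dvd_iff_pow_eq_one.1 h4
  refine ⟨zpowers (π b) ⊔ zpowers (π c), comm_sup hzz hzz hcp, ?_, π b, mem_sup_left (mem_zpowers _), hb9⟩
  rw [card_sup hcp hdis, Nat.card_zpowers, Nat.card_zpowers, hb9, hc3]

/-- three independent commuting elements of order 3 -/
theorem card_three {G : Type*} [Group G] {x y z : G} (hx : x ^ 3 = 1) (hy : y ^ 3 = 1) (hz : z ^ 3 = 1)
    (hxy : x * y = y * x) (hxz : x * z = z * x) (hyz : y * z = z * y)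
    (hi : ∀ a b c : ℕ, a < 3 → b < 3 → c < 3 → x ^ a * y ^ b * z ^ c = 1 → a = 0 ∧ b = 0 ∧ c = 0) :
    (∀ a ∈ zpowers x ⊔ zpowers y ⊔ zpowers z, ∀ b ∈ zpowers x ⊔ zpowers y ⊔ zpowers z, a * b = b * a) ∧
      Nat.card ↥(zpowers x ⊔ zpowers y ⊔ zpowers z) = 27 := by
  have red : ∀ {w : G}, w ^ 3 = 1 → ∀ a ∈ zpowers w, ∃ i, i < 3 ∧ a = w ^ i := by
    intro w hw a ha
    obtain ⟨k, rfl⟩ := mem_zpowers_iff.1 ha
    refine ⟨(k % 3).toNat, by omega, ?_⟩
    have h1 : w ^ k = w ^ (k % 3) := by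
      conv_lhs => rw [← Int.emod_add_mul_ediv k 3]
      rw [_root_.zpow_add, _root_.zpow_mul]
      have : w ^ (3 : ℤ) = 1 := by exact_mod_cast hw
      rw [this, _root_.one_zpow, mul_one]
    rw [h1, ← zpow_natCast, Int.toNat_of_nonneg (Int.emod_nonneg _ (by norm_num))]
  have neg : ∀ {w : G}, w ^ 3 = 1 → ∀ i, i < 3 → ∃ j, j < 3 ∧ (w ^ i)⁻¹ = w ^ j ∧ (i = 0 ↔ j = 0) := by
    intro w hw i hi
    interval_cases i
    · exact ⟨0, by norm_num, by simp, by simp⟩
    · refine ⟨2, by norm_num, ?_, by simp⟩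
      rw [inv_eq_iff_mul_eq_one, ← pow_add, hw]
    · refine ⟨1, by norm_num, ?_, by simp⟩
      rw [inv_eq_iff_mul_eq_one, ← pow_add, hw]
  have o3 : ∀ {w : G}, w ^ 3 = 1 → w ≠ 1 → Nat.card (zpowers w) = 3 := by
    intro w hw hw1
    rw [Nat.card_zpowers]
    exact orderOf_eq_prime hw hw1
  have x1 : x ≠ 1 := by
    intro h
    have := hi 1 0 0 (by norm_num) (by norm_num) (by norm_num) (by rw [h]; simp)
    omega
  have y1 : y ≠ 1 := by
    intro h
    have := hi 0 1 0 (by norm_num) (by norm_num) (by norm_num) (by rw [h]; simp)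
    omega
  have z1 : z ≠ 1 := by
    intro h
    have := hi 0 0 1 (by norm_num) (by norm_num) (by norm_num) (by rw [h]; simp)
    omega
  have cz : ∀ {u v : G}, u * v = v * u → ∀ a ∈ zpowers u, ∀ b ∈ zpowers v, a * b = b * a := by
    intro u v huv a ha b hb
    obtain ⟨i, rfl⟩ := mem_zpowers_iff.1 ha
    obtain ⟨j, rfl⟩ := mem_zpowers_iff.1 hb
    exact Commute.zpow_zpow huv i j
  have cxy := comm_sup (cz (u := x) (v := x) rfl) (cz (u := y) (v := y) rfl) (cz hxy)
  have cxyz : ∀ a ∈ zpowers x ⊔ zpowers y, ∀ b ∈ zpowers z, a * b = b * a := by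
    intro a ha b hb
    have h1 : zpowers x ⊔ zpowers y ≤ centralizer ({b} : Set G) := by
      refine sup_le ?_ ?_
      · intro c hc
        rw [mem_centralizer_singleton_iff]
        exact cz hxz c hc b hb
      · intro c hc
        rw [mem_centralizer_singleton_iff]
        exact cz hyz c hc b hb
    exact mem_centralizer_singleton_iff.1 (h1 ha)
  have d1 : Disjoint (zpowers x) (zpowers y) := by
    rw [Subgroup.disjoint_def]
    intro a ha hb
    obtain ⟨i, hi3, rfl⟩ := red hx a ha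
    obtain ⟨j, hj3, hj⟩ := red hy _ hb
    obtain ⟨k, hk3, hk, hjk⟩ := neg hy j hj3
    have h1 : x ^ i * y ^ k * z ^ 0 = 1 := by
      rw [hj, ← hk, mul_inv_cancel, pow_zero, one_mul]
    have h2 := hi i k 0 hi3 hk3 (by norm_num) h1
    rw [h2.1, pow_zero]
  have rep : ∀ a ∈ zpowers x ⊔ zpowers y, ∃ i j, i < 3 ∧ j < 3 ∧ a = x ^ i * y ^ j := by
    intro a ha
    let S : Subgroup G :=
      { carrier := {a | ∃ i j, i < 3 ∧ j < 3 ∧ a = x ^ i * y ^ j}
        mul_mem' := by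
          rintro _ _ ⟨i, j, hi', hj', rfl⟩ ⟨i', j', hi'', hj'', rfl⟩
          obtain ⟨m, hm, hm'⟩ := red hx (x ^ (i + i')) (pow_mem (mem_zpowers _) _)
          obtain ⟨l, hl, hl'⟩ := red hy (y ^ (j + j')) (pow_mem (mem_zpowers _) _)
          refine ⟨m, l, hm, hl, ?_⟩
          rw [← hm', ← hl', pow_add, pow_add]
          have : y ^ j * x ^ i' = x ^ i' * y ^ j := (Commute.pow_pow hxy i' j).symm
          calc x ^ i * y ^ j * (x ^ i' * y ^ j') = x ^ i * (y ^ j * x ^ i') * y ^ j' := by group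
            _ = x ^ i * (x ^ i' * y ^ j) * y ^ j' := by rw [this]
            _ = _ := by group
        one_mem' := ⟨0, 0, by norm_num, by norm_num, by simp⟩
        inv_mem' := by
          rintro _ ⟨i, j, hi', hj', rfl⟩
          obtain ⟨m, hm, hm', -⟩ := neg hx i hi'
          obtain ⟨l, hl, hl', -⟩ := neg hy j hj'
          refine ⟨m, l, hm, hl, ?_⟩
          rw [_root_.mul_inv_rev, hm', hl']
          exact (Commute.pow_pow hxy m l).symm }
    have : zpowers x ⊔ zpowers y ≤ S := by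
      refine sup_le ?_ ?_
      · rw [zpowers_le]
        exact ⟨1, 0, by norm_num, by norm_num, by simp⟩
      · rw [zpowers_le]
        exact ⟨0, 1, by norm_num, by norm_num, by simp⟩
    exact this ha
  have d2 : Disjoint (zpowers x ⊔ zpowers y) (zpowers z) := by
    rw [Subgroup.disjoint_def]
    intro a ha hb
    obtain ⟨i, j, hi3, hj3, rfl⟩ := rep a ha
    obtain ⟨k, hk3, hk⟩ := red hz _ hb
    obtain ⟨l, hl3, hl, -⟩ := neg hz k hk3
    have h1 : x ^ i * y ^ j * z ^ l = 1 := by rw [hk, ← hl, mul_inv_cancel]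
    have h2 := hi i j l hi3 hj3 hl3 h1
    rw [h2.1, h2.2.1, pow_zero, pow_zero, one_mul]
  refine ⟨comm_sup cxy (cz (u := z) (v := z) rfl) cxyz, ?_⟩
  rw [card_sup cxyz d2, card_sup (cz hxy) d1, o3 hx x1, o3 hy y1, o3 hz z1]

/-- the elementary abelian group of order 27 in the torus of `L₄^ε(q)`, 3 dividing `q - ε` -/
theorem exists_four {ι : H →* Matrix (Fin 4) (Fin 4) F} (L : Lin H ι) {ω : F} (h3 : ω ^ 3 = 1) (h1 : ω ≠ 1)
    {x y z : H} (hx : Dg ι x ![ω, ω ^ 2, 1, 1]) (hy : Dg ι y ![1, ω, ω ^ 2, 1]) (hz : Dg ι z ![1, 1, ω, ω ^ 2]) :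
    ∃ E : Subgroup (H ⧸ center H), (∀ a ∈ E, ∀ b ∈ E, a * b = b * a) ∧ Nat.card E = 27 ∧
      ∀ a ∈ E, ∃ (h : H) (t : Fin 4 → F), Dg ι h t ∧ QuotientGroup.mk' (center H) h = a := by
  set π := QuotientGroup.mk' (center H) with hπ
  have hker : ∀ h : H, π h = 1 ↔ h ∈ center H := fun h => QuotientGroup.eq_one_iff h
  have h6 : ω ^ 6 = 1 := by
    rw [show 6 = 3 * 2 by norm_num, pow_mul, h3, one_pow]
  have hω0 : ω ≠ 0 := by
    rintro rfl
    norm_num at h3
  have hone : ∀ {h : H} {t : Fin 4 → F}, Dg ι h t → (∀ i, t i ^ 3 = 1) → π h ^ 3 = 1 := by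
    intro h t hd ht
    rw [← map_pow, hker]
    exact (hd.pow 3).mem_center L (r := 1) fun i => ht i
  have hx3 := hone hx (by intro i; fin_cases i <;> simp [h3, ← pow_mul, h6])
  have hy3 := hone hy (by intro i; fin_cases i <;> simp [h3, ← pow_mul, h6])
  have hz3 := hone hz (by intro i; fin_cases i <;> simp [h3, ← pow_mul, h6])
  have hom : orderOf ω = 3 := orderOf_eq_prime h3 h1
  have lt3 : ∀ {a : ℕ}, a < 3 → ω ^ a = 1 → a = 0 := by
    intro a ha h
    have h2 := orderOf_dvd_of_pow_eq_one h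
    rw [hom] at h2
    exact Nat.eq_zero_of_dvd_of_lt h2 ha
  obtain ⟨c1, c2⟩ := card_three hx3 hy3 hz3 (by rw [← map_mul, ← map_mul, hx.comm L hy])
    (by rw [← map_mul, ← map_mul, hx.comm L hz]) (by rw [← map_mul, ← map_mul, hy.comm L hz]) (by
      intro a b c ha hb hc h
      have h2 : x ^ a * y ^ b * z ^ c ∈ center H := by
        rw [← hker, map_mul, map_mul, map_pow, map_pow, map_pow]
        exact h
      have hD := ((hx.pow a).mul (hy.pow b)).mul (hz.pow c)
      have e01 := hD.eq_of_scalar L h2 0 1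
      have e02 := hD.eq_of_scalar L h2 0 2
      have e03 := hD.eq_of_scalar L h2 0 3
      simp only [Pi.mul_apply, Pi.pow_apply] at e01 e02 e03
      change ω ^ a * 1 ^ b * 1 ^ c = (ω ^ 2) ^ a * ω ^ b * 1 ^ c at e01
      change ω ^ a * 1 ^ b * 1 ^ c = 1 ^ a * (ω ^ 2) ^ b * ω ^ c at e02
      change ω ^ a * 1 ^ b * 1 ^ c = 1 ^ a * 1 ^ b * (ω ^ 2) ^ c at e03
      simp only [one_pow, mul_one, one_mul] at e01 e02 e03
      -- `ω^a = ω^(2a+b) = ω^(2b+c) = ω^(2c)`, so `ω^(4a) = 1`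
      have hp : ∀ m : ℕ, (ω ^ m) ^ 3 = 1 := fun m => by rw [← pow_mul, mul_comm, pow_mul, h3, one_pow]
      have key : ω ^ a = 1 := by
        have k1 : (ω ^ a) ^ 4 = 1 := by
          have : (ω ^ a) ^ 4 = ω ^ a * ((ω ^ 2) ^ a * ω ^ b) * ((ω ^ 2) ^ b * ω ^ c) * (ω ^ 2) ^ c := by
            rw [← e01, ← e02, ← e03]
            ring
          rw [this]
          have : ω ^ a * ((ω ^ 2) ^ a * ω ^ b) * ((ω ^ 2) ^ b * ω ^ c) * (ω ^ 2) ^ c =
              (ω ^ a) ^ 3 * (ω ^ b) ^ 3 * (ω ^ c) ^ 3 := by ring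
          rw [this, hp, hp, hp]
          norm_num
        have k2 : (ω ^ a) ^ 4 = (ω ^ a) ^ 3 * ω ^ a := by ring
        rw [k2, hp, one_mul] at k1
        exact k1
      have ha0 := lt3 ha key
      subst ha0
      simp only [pow_zero, one_mul] at e01 e02 e03
      have hb0 := lt3 hb e01.symm
      subst hb0
      simp only [pow_zero, one_mul] at e02
      exact ⟨rfl, rfl, lt3 hc e02.symm⟩)
  refine ⟨_, c1, c2, ?_⟩
  let T : Subgroup (H ⧸ center H) :=
    { carrier := {a | ∃ (h : H) (t : Fin 4 → F), Dg ι h t ∧ (∀ i, t i ≠ 0) ∧ π h = a}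
      mul_mem' := by
        rintro _ _ ⟨h, t, hd, ht, rfl⟩ ⟨h', t', hd', ht', rfl⟩
        exact ⟨h * h', t * t', hd.mul hd', fun i => mul_ne_zero (ht i) (ht' i), map_mul _ _ _⟩
      one_mem' := ⟨1, 1, by
        unfold Dg
        rw [map_one]
        exact diagonal_one.symm, fun i => one_ne_zero, map_one _⟩
      inv_mem' := by
        rintro _ ⟨h, t, hd, ht, rfl⟩
        refine ⟨h⁻¹, fun i => (t i)⁻¹, ?_, fun i => inv_ne_zero (ht i), map_inv _ _⟩
        unfold Dg at *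
        have e1 : ι h * ι h⁻¹ = 1 := by rw [← map_mul, mul_inv_cancel, map_one]
        have e2 : (diagonal fun i => (t i)⁻¹) * ι h = 1 := by
          rw [hd, diagonal_mul_diagonal, ← diagonal_one]
          congr 1
          funext i
          exact inv_mul_cancel₀ (ht i)
        calc ι h⁻¹ = ((diagonal fun i => (t i)⁻¹) * ι h) * ι h⁻¹ := by rw [e2, one_mul]
          _ = _ := by rw [mul_assoc, e1, mul_one] }
  have hT : zpowers (π x) ⊔ zpowers (π y) ⊔ zpowers (π z) ≤ T := by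
    refine sup_le (sup_le ?_ ?_) ?_
    · rw [zpowers_le]
      exact ⟨x, _, hx, by intro i; fin_cases i <;> simp [hω0], rfl⟩
    · rw [zpowers_le]
      exact ⟨y, _, hy, by intro i; fin_cases i <;> simp [hω0], rfl⟩
    · rw [zpowers_le]
      exact ⟨z, _, hz, by intro i; fin_cases i <;> simp [hω0], rfl⟩
  intro a ha
  obtain ⟨h, t, hd, -, rfl⟩ := hT ha
  exact ⟨h, t, hd, rfl⟩

theorem Dg.ne_zero {h : H} {t : Fin n → F} (hd : Dg ι h t) (i : Fin n) : t i ≠ 0 := by
  intro h0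
  have e1 : ι h * ι h⁻¹ = 1 := by rw [← map_mul, mul_inv_cancel, map_one]
  rw [hd] at e1
  have e2 := congrFun (congrFun e1 i) i
  rw [diagonal_mul, h0, zero_mul, one_apply_eq] at e2
  exact zero_ne_one e2

theorem Dg.inv {h : H} {t : Fin n → F} (hd : Dg ι h t) : Dg ι h⁻¹ (fun i => (t i)⁻¹) := by
  have hne := hd.ne_zero
  unfold Dg at *
  have e1 : ι h * ι h⁻¹ = 1 := by rw [← map_mul, mul_inv_cancel, map_one]
  have e2 : (diagonal fun i => (t i)⁻¹) * ι h = 1 := by
    rw [hd, diagonal_mul_diagonal, ← diagonal_one]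
    congr 1
    funext i
    exact inv_mul_cancel₀ (hne i)
  calc ι h⁻¹ = ((diagonal fun i => (t i)⁻¹) * ι h) * ι h⁻¹ := by rw [e2, one_mul]
    _ = _ := by rw [mul_assoc, e1, mul_one]

/-- the diagonal torus modulo the centre -/
def tor (ι : H →* Matrix (Fin n) (Fin n) F) : Subgroup (H ⧸ center H) where
  carrier := {a | ∃ (h : H) (t : Fin n → F), Dg ι h t ∧ QuotientGroup.mk' (center H) h = a}
  mul_mem' := by
    rintro _ _ ⟨h, t, hd, rfl⟩ ⟨h', t', hd', rfl⟩
    exact ⟨h * h', t * t', hd.mul hd', map_mul _ _ _⟩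
  one_mem' := ⟨1, 1, by
    unfold Dg
    rw [map_one]
    exact diagonal_one.symm, map_one _⟩
  inv_mem' := by
    rintro _ ⟨h, t, hd, rfl⟩
    exact ⟨h⁻¹, _, hd.inv, map_inv _ _⟩

theorem tor_comm (L : Lin H ι) : ∀ a ∈ tor ι, ∀ b ∈ tor ι, a * b = b * a := by
  rintro _ ⟨h, t, hd, rfl⟩ _ ⟨h', t', hd', rfl⟩
  rw [← map_mul, ← map_mul, hd.comm L hd']

end Cfsg.Agent.H356.Diag
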