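import Mathlib

/-!
# Number theory: 3-parts of the orders of groups of Lie type (helper356)
-/

set_option autoImplicit false

namespace Cfsg.Agent.H356.Num

theorem cop3 {a : ℕ} (h : a % 3 ≠ 0) (k : ℕ) : Nat.Coprime (3 ^ k) a := by
  apply Nat.Coprime.pow_left
  rw [Nat.Prime.coprime_iff_not_dvd Nat.prime_three]
  intro hd
  exact h (Nat.mod_eq_zero_of_dvd hd)

theorem sq_mod {q : ℕ} (h : q % 3 ≠ 0) : q ^ 2 % 3 = 1 := by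
  have h1 : q % 3 = 1 ∨ q % 3 = 2 := by omega
  rcases h1 with h1 | h1 <;> simp [Nat.pow_mod, h1]

theorem sub_one {a n : ℕ} (ha : 1 ≤ a) (h : a % n = 1 % n) : n ∣ a - 1 :=
  (Nat.modEq_iff_dvd' ha).1 h.symm

theorem three_dvd {q : ℕ} (h : q % 3 ≠ 0) : 3 ∣ q ^ 2 - 1 :=
  sub_one (Nat.one_le_pow _ _ (by omega)) (sq_mod h)

theorem sq_dvd {a c : ℕ} (hc : c % 3 ≠ 0) (ha : 3 ∣ a) (h : 81 ∣ a * a * c) : 9 ∣ a := by
  have h1 : 81 ∣ a * a := by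
    have : Nat.Coprime (3 ^ 4) c := cop3 hc 4
    exact this.dvd_of_dvd_mul_right h
  obtain ⟨b, rfl⟩ := ha
  have h2 : 9 ∣ b * b := by
    obtain ⟨k, hk⟩ := h1
    exact ⟨k, by nlinarith⟩
  have h3 : 3 ∣ b := by
    have : 3 ∣ b * b := Dvd.dvd.trans (by norm_num) h2
    rcases (Nat.prime_three.dvd_mul).1 this with h | h <;> exact h
  obtain ⟨c', rfl⟩ := h3
  exact ⟨c', by ring⟩

/-- write `q = r + 1` -/
theorem exists_succ {q : ℕ} (h : 1 < q) : ∃ r, q = r + 1 ∧ 1 ≤ r := ⟨q - 1, by omega, by omega⟩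

theorem psl2 {q c : ℕ} (hq : 1 < q) (h : Nat.gcd 2 (q - 1) * ((q - 1) * c) = ∏ i : Fin 2, (q ^ 2 - q ^ (i : ℕ))) :
    Nat.gcd 2 (q - 1) * c = q * (q ^ 2 - 1) := by
  rw [Fin.prod_univ_two] at h
  obtain ⟨r, rfl, hr⟩ := exists_succ hq
  rw [Nat.add_sub_cancel] at h ⊢
  apply Nat.eq_of_mul_eq_mul_left (show 0 < r by omega)
  rw [mul_left_comm] at h
  rw [h]
  simp only [Fin.val_zero, Fin.val_one, pow_zero, pow_one]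
  have h1 : (r + 1) ^ 2 - (r + 1) = r * (r + 1) := by
    rw [pow_two, ← Nat.sub_one_mul, Nat.add_sub_cancel]
  rw [h1]
  ring

theorem psl3 {q c : ℕ} (hq : 1 < q) (h : Nat.gcd 3 (q - 1) * ((q - 1) * c) = ∏ i : Fin 3, (q ^ 3 - q ^ (i : ℕ))) :
    Nat.gcd 3 (q - 1) * c = q ^ 3 * (q ^ 2 - 1) * (q ^ 3 - 1) := by
  rw [Fin.prod_univ_three] at h
  obtain ⟨r, rfl, hr⟩ := exists_succ hq
  rw [Nat.add_sub_cancel] at h ⊢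
  apply Nat.eq_of_mul_eq_mul_left (show 0 < r by omega)
  rw [mul_left_comm] at h
  rw [h]
  simp only [Fin.val_zero, Fin.val_one, Fin.val_two, pow_zero, pow_one]
  have h1 : (r + 1) ^ 3 - (r + 1) ^ 2 = r * (r + 1) ^ 2 := by
    rw [show (r + 1) ^ 3 = (r + 1) * (r + 1) ^ 2 by ring, ← Nat.sub_one_mul, Nat.add_sub_cancel]
  have h2 : (r + 1) ^ 3 - (r + 1) = ((r + 1) ^ 2 - 1) * (r + 1) := by
    rw [show (r + 1) ^ 3 = (r + 1) ^ 2 * (r + 1) by ring, ← Nat.sub_one_mul]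
  rw [h1, h2]
  ring

theorem psl4 {q c : ℕ} (hq : 1 < q) (h : Nat.gcd 4 (q - 1) * ((q - 1) * c) = ∏ i : Fin 4, (q ^ 4 - q ^ (i : ℕ))) :
    Nat.gcd 4 (q - 1) * c = q ^ 6 * (q ^ 2 - 1) * (q ^ 3 - 1) * (q ^ 4 - 1) := by
  rw [Fin.prod_univ_four] at h
  obtain ⟨r, rfl, hr⟩ := exists_succ hq
  rw [Nat.add_sub_cancel] at h ⊢
  apply Nat.eq_of_mul_eq_mul_left (show 0 < r by omega)
  rw [mul_left_comm] at h
  rw [h]
  have e0 : ((0 : Fin 4) : ℕ) = 0 := rfl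
  have e1 : ((1 : Fin 4) : ℕ) = 1 := rfl
  have e2 : ((2 : Fin 4) : ℕ) = 2 := rfl
  have e3 : ((3 : Fin 4) : ℕ) = 3 := rfl
  rw [e0, e1, e2, e3, pow_zero, pow_one]
  have h1 : (r + 1) ^ 4 - (r + 1) ^ 3 = r * (r + 1) ^ 3 := by
    rw [show (r + 1) ^ 4 = (r + 1) * (r + 1) ^ 3 by ring, ← Nat.sub_one_mul, Nat.add_sub_cancel]
  have h2 : (r + 1) ^ 4 - (r + 1) ^ 2 = ((r + 1) ^ 2 - 1) * (r + 1) ^ 2 := by
    rw [show (r + 1) ^ 4 = (r + 1) ^ 2 * (r + 1) ^ 2 by ring, ← Nat.sub_one_mul]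
  have h3 : (r + 1) ^ 4 - (r + 1) = ((r + 1) ^ 3 - 1) * (r + 1) := by
    rw [show (r + 1) ^ 4 = (r + 1) ^ 3 * (r + 1) by ring, ← Nat.sub_one_mul]
  rw [h1, h2, h3]
  ring

theorem psl5 {q c : ℕ} (hq : 1 < q) (h : Nat.gcd 5 (q - 1) * ((q - 1) * c) = ∏ i : Fin 5, (q ^ 5 - q ^ (i : ℕ))) :
    Nat.gcd 5 (q - 1) * c = q ^ 10 * (q ^ 2 - 1) * (q ^ 3 - 1) * (q ^ 4 - 1) * (q ^ 5 - 1) := by
  rw [Fin.prod_univ_five] at h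
  obtain ⟨r, rfl, hr⟩ := exists_succ hq
  rw [Nat.add_sub_cancel] at h ⊢
  apply Nat.eq_of_mul_eq_mul_left (show 0 < r by omega)
  rw [mul_left_comm] at h
  rw [h]
  have e0 : ((0 : Fin 5) : ℕ) = 0 := rfl
  have e1 : ((1 : Fin 5) : ℕ) = 1 := rfl
  have e2 : ((2 : Fin 5) : ℕ) = 2 := rfl
  have e3 : ((3 : Fin 5) : ℕ) = 3 := rfl
  have e4 : ((4 : Fin 5) : ℕ) = 4 := rfl
  rw [e0, e1, e2, e3, e4, pow_zero, pow_one]
  have h1 : (r + 1) ^ 5 - (r + 1) ^ 4 = r * (r + 1) ^ 4 := by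
    rw [show (r + 1) ^ 5 = (r + 1) * (r + 1) ^ 4 by ring, ← Nat.sub_one_mul, Nat.add_sub_cancel]
  have h2 : (r + 1) ^ 5 - (r + 1) ^ 3 = ((r + 1) ^ 2 - 1) * (r + 1) ^ 3 := by
    rw [show (r + 1) ^ 5 = (r + 1) ^ 2 * (r + 1) ^ 3 by ring, ← Nat.sub_one_mul]
  have h3 : (r + 1) ^ 5 - (r + 1) ^ 2 = ((r + 1) ^ 3 - 1) * (r + 1) ^ 2 := by
    rw [show (r + 1) ^ 5 = (r + 1) ^ 3 * (r + 1) ^ 2 by ring, ← Nat.sub_one_mul]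
  have h4 : (r + 1) ^ 5 - (r + 1) = ((r + 1) ^ 4 - 1) * (r + 1) := by
    rw [show (r + 1) ^ 5 = (r + 1) ^ 4 * (r + 1) by ring, ← Nat.sub_one_mul]
  rw [h1, h2, h3, h4]
  ring

/-- `q⁴ - 1 = (q² - 1)(q² + 1)` -/
theorem four_sub {q : ℕ} : q ^ 4 - 1 = (q ^ 2 - 1) * (q ^ 2 + 1) := by
  rw [show q ^ 4 = (q ^ 2) ^ 2 by ring, show (1 : ℕ) = 1 ^ 2 by norm_num, Nat.sq_sub_sq]
  ring_nf

theorem pow_sub_mod {q k m : ℕ} (hq : 1 ≤ q) (h : (q ^ k + 2) % 3 = m % 3) : (q ^ k - 1) % 3 = m % 3 := by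
  have h1 : 1 ≤ q ^ k := Nat.one_le_pow _ _ hq
  omega

/-- `81 ∣ q²-1` for `L₃(q)`, `q = 2 mod 3` -/
theorem psl3_two {q c : ℕ} (hq : q % 3 = 2) (h : Nat.gcd 3 (q - 1) * c = q ^ 3 * (q ^ 2 - 1) * (q ^ 3 - 1))
    (hd : 81 ∣ c) : 81 ∣ q ^ 2 - 1 := by
  have h1 : 81 ∣ q ^ 3 * (q ^ 2 - 1) * (q ^ 3 - 1) := h ▸ dvd_mul_of_dvd_right hd _
  have h2 : Nat.Coprime (3 ^ 4) (q ^ 3 - 1) := cop3 (by
    rw [pow_sub_mod (m := 1) (by omega) (by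
      have : q ^ 3 % 3 = 2 := by simp [Nat.pow_mod, hq]
      omega)]
    norm_num) 4
  have h3 : Nat.Coprime (3 ^ 4) (q ^ 3) := cop3 (by simp [Nat.pow_mod, hq]) 4
  exact h3.dvd_of_dvd_mul_left (h2.dvd_of_dvd_mul_right h1)

/-- `9 ∣ q-1` for `L₃(q)`, `q = 1 mod 3` -/
theorem psl3_one {q c : ℕ} (hq : q % 3 = 1) (h : Nat.gcd 3 (q - 1) * c = q ^ 3 * (q ^ 2 - 1) * (q ^ 3 - 1))
    (hd : 81 ∣ c) : 9 ∣ q - 1 := by
  have hg : Nat.gcd 3 (q - 1) = 3 := Nat.gcd_eq_left (by omega)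
  rw [hg] at h
  obtain ⟨r, rfl⟩ : ∃ r, q = 3 * r + 1 := ⟨q / 3, by omega⟩
  rw [Nat.add_sub_cancel]
  have h2 : (3 * r + 1) ^ 2 - 1 = 3 * (r * (3 * r + 2)) := by
    have : (3 * r + 1) ^ 2 = 3 * (r * (3 * r + 2)) + 1 := by ring
    omega
  have h3 : (3 * r + 1) ^ 3 - 1 = 9 * (r * (3 * r ^ 2 + 3 * r + 1)) := by
    have : (3 * r + 1) ^ 3 = 9 * (r * (3 * r ^ 2 + 3 * r + 1)) + 1 := by ring
    omega
  rw [h2, h3] at h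
  have h4 : c = 9 * (r * r * ((3 * r + 1) ^ 3 * (3 * r + 2) * (3 * r ^ 2 + 3 * r + 1))) := by
    have : 3 * c = 3 * (9 * (r * r * ((3 * r + 1) ^ 3 * (3 * r + 2) * (3 * r ^ 2 + 3 * r + 1)))) := by
      rw [h]; ring
    omega
  have h5 : 9 ∣ r * r * ((3 * r + 1) ^ 3 * (3 * r + 2) * (3 * r ^ 2 + 3 * r + 1)) := by
    rw [h4] at hd
    exact Nat.dvd_of_mul_dvd_mul_left (show 0 < 9 by norm_num) (by norm_num; exact hd)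
  have h6 : Nat.Coprime (3 ^ 2) ((3 * r + 1) ^ 3 * (3 * r + 2) * (3 * r ^ 2 + 3 * r + 1)) := by
    refine Nat.Coprime.mul_right (Nat.Coprime.mul_right (Nat.Coprime.pow_right _ ?_) ?_) ?_
    · exact cop3 (by omega) 2
    · exact cop3 (by omega) 2
    · exact cop3 (by
        have : 3 * r ^ 2 + 3 * r + 1 = 3 * (r ^ 2 + r) + 1 := by ring
        omega) 2
  have h7 : 9 ∣ r * r := h6.dvd_of_dvd_mul_right h5
  have h8 : 3 ∣ r := by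
    have : 3 ∣ r * r := Dvd.dvd.trans (by norm_num) h7
    rcases (Nat.prime_three.dvd_mul).1 this with h | h <;> exact h
  omega

/-- `9 ∣ q²-1` for `L₄(q)`, `q = 2 mod 3` -/
theorem psl4_two {q c : ℕ} (hq : q % 3 = 2)
    (h : Nat.gcd 4 (q - 1) * c = q ^ 6 * (q ^ 2 - 1) * (q ^ 3 - 1) * (q ^ 4 - 1)) (hd : 81 ∣ c) : 9 ∣ q ^ 2 - 1 := by
  have h1 : 81 ∣ q ^ 6 * (q ^ 2 - 1) * (q ^ 3 - 1) * (q ^ 4 - 1) := h ▸ dvd_mul_of_dvd_right hd _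
  refine sq_dvd (c := q ^ 6 * (q ^ 3 - 1) * (q ^ 2 + 1)) ?_ (three_dvd (by omega)) ?_
  · have e1 : q ^ 6 % 3 = 1 := by simp [Nat.pow_mod, hq]
    have e2 : (q ^ 3 - 1) % 3 = 1 := pow_sub_mod (m := 1) (by omega) (by
      have : q ^ 3 % 3 = 2 := by simp [Nat.pow_mod, hq]
      omega)
    have e3 : (q ^ 2 + 1) % 3 = 2 := by
      have := sq_mod (q := q) (by omega)
      omega
    rw [Nat.mul_mod, Nat.mul_mod (q ^ 6), e1, e2, e3]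
    norm_num
  · rw [four_sub] at h1
    convert h1 using 1
    ring

theorem psl5_two {q c : ℕ} (hq : q % 3 = 2)
    (h : Nat.gcd 5 (q - 1) * c = q ^ 10 * (q ^ 2 - 1) * (q ^ 3 - 1) * (q ^ 4 - 1) * (q ^ 5 - 1)) (hd : 81 ∣ c) :
    9 ∣ q ^ 2 - 1 := by
  have h1 : 81 ∣ q ^ 10 * (q ^ 2 - 1) * (q ^ 3 - 1) * (q ^ 4 - 1) * (q ^ 5 - 1) := h ▸ dvd_mul_of_dvd_right hd _
  refine sq_dvd (c := q ^ 10 * (q ^ 3 - 1) * (q ^ 2 + 1) * (q ^ 5 - 1)) ?_ (three_dvd (by omega)) ?_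
  · have e1 : q ^ 10 % 3 = 1 := by simp [Nat.pow_mod, hq]
    have e2 : (q ^ 3 - 1) % 3 = 1 := pow_sub_mod (m := 1) (by omega) (by
      have : q ^ 3 % 3 = 2 := by simp [Nat.pow_mod, hq]
      omega)
    have e3 : (q ^ 2 + 1) % 3 = 2 := by
      have := sq_mod (q := q) (by omega)
      omega
    have e4 : (q ^ 5 - 1) % 3 = 1 := pow_sub_mod (m := 1) (by omega) (by
      have : q ^ 5 % 3 = 2 := by simp [Nat.pow_mod, hq]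
      omega)
    rw [Nat.mul_mod, Nat.mul_mod (q ^ 10 * (q ^ 3 - 1)), Nat.mul_mod (q ^ 10), e1, e2, e3, e4]
    norm_num
  · rw [four_sub] at h1
    convert h1 using 1
    ring

theorem nine_dvd_cube {q : ℕ} (hq : q % 3 = 1) : 9 ∣ q ^ 3 - 1 := by
  obtain ⟨r, rfl⟩ : ∃ r, q = 3 * r + 1 := ⟨q / 3, by omega⟩
  refine ⟨r * (3 * r ^ 2 + 3 * r + 1), ?_⟩
  have : (3 * r + 1) ^ 3 = 9 * (r * (3 * r ^ 2 + 3 * r + 1)) + 1 := by ring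
  omega

theorem nine_dvd_cube' {q : ℕ} (hq : q % 3 = 2) : 9 ∣ q ^ 3 + 1 := by
  obtain ⟨r, rfl⟩ : ∃ r, q = 3 * r + 2 := ⟨q / 3, by omega⟩
  exact ⟨3 * r ^ 3 + 6 * r ^ 2 + 4 * r + 1, by ring⟩

theorem three_dvd_sub {q k : ℕ} (hq : q % 3 = 1) : 3 ∣ q ^ k - 1 :=
  sub_one (Nat.one_le_pow _ _ (by omega)) (by simp [Nat.pow_mod, hq])

theorem cop_gcd {n a : ℕ} (hn : n % 3 ≠ 0) (k : ℕ) : Nat.Coprime (3 ^ k) (Nat.gcd n a) :=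
  Nat.Coprime.coprime_dvd_right (Nat.gcd_dvd_left _ _) (cop3 hn k)

theorem psl5_one {q c : ℕ} (hq : q % 3 = 1)
    (h : Nat.gcd 5 (q - 1) * c = q ^ 10 * (q ^ 2 - 1) * (q ^ 3 - 1) * (q ^ 4 - 1) * (q ^ 5 - 1)) : 243 ∣ c := by
  have h1 : 3 * 9 * 3 * 3 ∣ q ^ 10 * (q ^ 2 - 1) * (q ^ 3 - 1) * (q ^ 4 - 1) * (q ^ 5 - 1) :=
    mul_dvd_mul (mul_dvd_mul (mul_dvd_mul (dvd_mul_of_dvd_right (three_dvd_sub hq) _) (nine_dvd_cube hq))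
      (three_dvd_sub hq)) (three_dvd_sub hq)
  rw [← h] at h1
  exact (cop_gcd (n := 5) (by norm_num) 5).dvd_of_dvd_mul_left h1

theorem psl3_zero {q c k : ℕ} (hq : q = 3 ^ k) (hk : 1 ≤ k)
    (h : Nat.gcd 3 (q - 1) * c = q ^ 3 * (q ^ 2 - 1) * (q ^ 3 - 1)) (hd : 81 ∣ c) : 243 ∣ c := by
  have hq0 : q % 3 = 0 := by
    rw [hq]
    obtain ⟨j, rfl⟩ : ∃ j, k = j + 1 := ⟨k - 1, by omega⟩
    rw [pow_succ, Nat.mul_mod_left]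
  have hq3 : 3 ≤ q := by
    rw [hq]
    calc 3 = 3 ^ 1 := by norm_num
      _ ≤ 3 ^ k := Nat.pow_le_pow_right (by norm_num) hk
  have hg : Nat.gcd 3 (q - 1) = 1 := by
    have : Nat.Coprime (3 ^ 1) (q - 1) := cop3 (by omega) 1
    simpa using this
  rw [hg, one_mul] at h
  have c2 : ∀ m j : ℕ, 1 ≤ m → Nat.Coprime (3 ^ j) (q ^ m - 1) := by
    intro m j hm
    refine cop3 ?_ j
    have h1 : q ^ m % 3 = 0 := by simp [Nat.pow_mod, hq0, Nat.zero_pow (show 0 < m by omega)]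
    have h2 : 1 ≤ q ^ m := Nat.one_le_pow _ _ (by omega)
    omega
  have h1 : 3 ^ 4 ∣ q ^ 3 := by
    rw [h] at hd
    exact (c2 2 4 (by norm_num)).dvd_of_dvd_mul_right ((c2 3 4 (by norm_num)).dvd_of_dvd_mul_right hd)
  rw [hq, ← pow_mul, Nat.pow_dvd_pow_iff_le_right (by norm_num)] at h1
  rw [h]
  refine dvd_mul_of_dvd_left (dvd_mul_of_dvd_left ?_ _) _
  rw [hq, ← pow_mul, show 243 = 3 ^ 5 by norm_num]
  exact Nat.pow_dvd_pow _ (by omega)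

end Cfsg.Agent.H356.Num
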