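import Cfsg.Agent.H356.Crit
import Cfsg.Agent.H356.Diag
import Cfsg.Agent.H356.Num
import Cfsg.Agent.S0243
import Cfsg.Prelude.Def_Classical

/-!
# `PSL_n(q)` does not satisfy `Crit` (helper356)
-/

set_option autoImplicit false

namespace Cfsg.Agent.H356.KillPSL

open Matrix Subgroup Cfsg.Agent.H356.SLTwo Cfsg.Agent.H356.SLTorus Cfsg.Agent.H356.ThreeInv Cfsg.Agent.H356.CommSup

variable {F : Type*} [Field F] {n k : ℕ}

/-- the index type -/
def eqv (h : 2 * k ≤ n) : (Fin 2 × Fin k) ⊕ Fin (n - 2 * k) ≃ Fin n :=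
  (Equiv.sumCongr (finProdFinEquiv (m := 2) (n := k)) (Equiv.refl _)).trans
    (finSumFinEquiv.trans (finCongr (by omega)))

/-- `k` diagonal blocks -/
def blk (h : 2 * k ≤ n) : (Fin k → Matrix.SpecialLinearGroup (Fin 2) F) →* Matrix.SpecialLinearGroup (Fin n) F where
  toFun g := ⟨(fromBlocks (blockDiagonal (fun i => (g i : Matrix (Fin 2) (Fin 2) F))) 0 0
      (1 : Matrix (Fin (n - 2 * k)) (Fin (n - 2 * k)) F)).submatrix (eqv h).symm (eqv h).symm, by
    rw [det_submatrix_equiv_self, det_fromBlocks_zero₂₁, det_blockDiagonal, det_one, mul_one]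
    exact Finset.prod_eq_one fun i _ => (g i).2⟩
  map_one' := by
    apply Subtype.ext
    have h1 : (fun i => (((1 : Fin k → Matrix.SpecialLinearGroup (Fin 2) F) i : Matrix.SpecialLinearGroup (Fin 2) F) :
        Matrix (Fin 2) (Fin 2) F)) = 1 := by
      funext i; rfl
    change (fromBlocks (blockDiagonal (fun i => (((1 : Fin k → Matrix.SpecialLinearGroup (Fin 2) F) i :
      Matrix.SpecialLinearGroup (Fin 2) F) : Matrix (Fin 2) (Fin 2) F))) 0 0 1).submatrix _ _ = 1
    rw [h1, blockDiagonal_one, fromBlocks_one, submatrix_one_equiv]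
  map_mul' g g' := by
    apply Subtype.ext
    change (fromBlocks (blockDiagonal (fun i => ((g i : Matrix (Fin 2) (Fin 2) F) * (g' i : Matrix (Fin 2) (Fin 2) F)))) 0 0 1).submatrix
      _ _ = (fromBlocks (blockDiagonal (fun i => (g i : Matrix (Fin 2) (Fin 2) F))) 0 0 1).submatrix _ _ *
      (fromBlocks (blockDiagonal (fun i => (g' i : Matrix (Fin 2) (Fin 2) F))) 0 0 1).submatrix _ _
    rw [submatrix_mul_equiv, fromBlocks_multiply, blockDiagonal_mul]
    simp

theorem blk_apply (h : 2 * k ≤ n) (g : Fin k → Matrix.SpecialLinearGroup (Fin 2) F) (i : Fin k) (a b : Fin 2) :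
    (blk h g : Matrix (Fin n) (Fin n) F) (eqv h (Sum.inl (a, i))) (eqv h (Sum.inl (b, i)))
      = (g i : Matrix (Fin 2) (Fin 2) F) a b := by
  change (fromBlocks (blockDiagonal (fun i => (g i : Matrix (Fin 2) (Fin 2) F))) 0 0
      (1 : Matrix (Fin (n - 2 * k)) (Fin (n - 2 * k)) F)).submatrix (eqv h).symm (eqv h).symm _ _ = _
  rw [submatrix_apply, Equiv.symm_apply_apply, Equiv.symm_apply_apply, fromBlocks_apply₁₁, blockDiagonal_apply_eq]

/-- the `i`-th block -/
def f (h : 2 * k ≤ n) (i : Fin k) : Matrix.SpecialLinearGroup (Fin 2) F →* Matrix.SpecialLinearGroup (Fin n) F :=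
  (blk h).comp (MonoidHom.mulSingle (fun _ => Matrix.SpecialLinearGroup (Fin 2) F) i)

theorem f_injective (h : 2 * k ≤ n) (i : Fin k) : Function.Injective (f (F := F) h i) := by
  intro a b hab
  apply Subtype.ext
  ext r s
  have h1 := blk_apply h (Pi.mulSingle i a) i r s
  have h2 := blk_apply h (Pi.mulSingle i b) i r s
  rw [Pi.mulSingle_eq_same] at h1 h2
  have h3 : blk h (Pi.mulSingle i a) = blk h (Pi.mulSingle i b) := hab
  rw [h3] at h1
  exact h1.symm.trans h2

theorem f_comm (h : 2 * k ≤ n) {i j : Fin k} (hij : i ≠ j) (a b : Matrix.SpecialLinearGroup (Fin 2) F) :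
    f h i a * f h j b = f h j b * f h i a := by
  change blk h (Pi.mulSingle i a) * blk h (Pi.mulSingle j b) = blk h (Pi.mulSingle j b) * blk h (Pi.mulSingle i a)
  rw [← map_mul, ← map_mul]
  congr 1
  exact Pi.mulSingle_commute hij _ _

theorem f_ne_one (h : 2 * k ≤ n) (i : Fin k) : f h i (X3 F) ≠ 1 := by
  intro h1
  exact X3_ne_one (f_injective h i (h1.trans (map_one _).symm))

theorem threeInv_of_six [Finite F] (h3 : (3 : F) ≠ 0) (hn : 6 ≤ n) :
    ThreeInv (Matrix.ProjectiveSpecialLinearGroup (Fin n) F) := by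
  have h : 2 * 3 ≤ n := hn
  exact (threeInv_of_homs h3 h3 h3 (f h 0) (f h 1) (f h 2) (f_ne_one h 0) (f_ne_one h 1) (f_ne_one h 2)
    (f_comm h (by decide)) (f_comm h (by decide)) (f_comm h (by decide))).quot

theorem three_ne_zero_of [Fintype F] (h : Fintype.card F % 3 ≠ 0) : (3 : F) ≠ 0 := by
  intro h0
  obtain ⟨p, hp⟩ := CharP.exists F
  have hp3 : p ∣ 3 := (CharP.cast_eq_zero_iff F p 3).1 (by exact_mod_cast h0)
  have hpp : p.Prime := (CharP.char_is_prime_or_zero F p).resolve_right (CharP.char_ne_zero_of_finite F p)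
  have hp' : p = 3 := (Nat.prime_dvd_prime_iff_eq hpp Nat.prime_three).1 hp3
  subst hp'
  obtain ⟨m, -, hm⟩ := FiniteField.card F 3
  apply h
  rw [hm]
  exact Nat.mod_eq_zero_of_dvd (dvd_pow_self 3 m.2.ne')

theorem exists_pow_of [Fintype F] (h : Fintype.card F % 3 = 0) : ∃ m, 1 ≤ m ∧ Fintype.card F = 3 ^ m := by
  obtain ⟨p, hp⟩ := CharP.exists F
  obtain ⟨m, hpp, hm⟩ := FiniteField.card F p
  have h1 : 3 ∣ p ^ (m : ℕ) := by
    rw [← hm]
    exact Nat.dvd_of_mod_eq_zero h
  have h2 : p = 3 := ((Nat.prime_dvd_prime_iff_eq Nat.prime_three hpp).1 (Nat.prime_three.dvd_of_dvd_pow h1)).symm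
  subst h2
  exact ⟨m, m.2, hm⟩

theorem pow_dvd_prod {q n : ℕ} (hn : 4 ≤ n) : q ^ 6 ∣ ∏ i : Fin n, (q ^ n - q ^ (i : ℕ)) := by
  rw [Fin.prod_univ_eq_prod_range (fun i => q ^ n - q ^ i) n]
  have h1 : q ^ 6 ∣ ∏ i ∈ Finset.range 4, (q ^ n - q ^ i) := by
    have : q ^ 6 = ∏ i ∈ Finset.range 4, q ^ i := by
      simp [Finset.prod_range_succ]
      ring
    rw [this]
    refine Finset.prod_dvd_prod_of_dvd _ _ fun i hi => ?_
    rw [Finset.mem_range] at hi
    exact Nat.dvd_sub (pow_dvd_pow _ (by omega)) dvd_rfl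
  exact h1.trans (Finset.prod_dvd_prod_of_subset _ _ _ (Finset.range_subset_range.2 hn))

theorem not_four_zero [Fintype F] (hn : 4 ≤ n) (hq : Fintype.card F % 3 = 0) :
    243 ∣ Nat.card (Matrix.ProjectiveSpecialLinearGroup (Fin n) F) := by
  have h := Cfsg.Agent.S0243.result (F := F) rfl n (by omega)
  have h1 : 1 < Fintype.card F := Fintype.one_lt_card
  have h2 : 3 ^ 5 ∣ Fintype.card F ^ 6 :=
    (pow_dvd_pow 3 (by norm_num)).trans (pow_dvd_pow_of_dvd (Nat.dvd_of_mod_eq_zero hq) 6)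
  have h3 := h2.trans (pow_dvd_prod (q := Fintype.card F) hn)
  rw [← h] at h3
  have h4 : Nat.Coprime (3 ^ 5) (Fintype.card F - 1) := Num.cop3 (by omega) 5
  exact h4.dvd_of_dvd_mul_left
    ((Nat.Coprime.coprime_dvd_right (Nat.gcd_dvd_right _ _) h4).dvd_of_dvd_mul_left h3)

/-! ### `n = 2` -/

/-- the root group of `PSL_2(q)` -/
theorem exists_root [Fintype F] : ∃ A : Subgroup (Matrix.ProjectiveSpecialLinearGroup (Fin 2) F),
    (∀ a ∈ A, ∀ b ∈ A, a * b = b * a) ∧ Nat.card A = Fintype.card F := by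
  let u : Multiplicative F →* Matrix.SpecialLinearGroup (Fin 2) F :=
    { toFun := fun t => ⟨!![1, t.toAdd; 0, 1], by simp [det_fin_two]⟩
      map_one' := by
        apply Subtype.ext
        change !![(1 : F), 0; 0, 1] = 1
        exact one_fin_two.symm
      map_mul' := fun s t => by
        apply Subtype.ext
        change !![(1 : F), s.toAdd + t.toAdd; 0, 1] = !![1, s.toAdd; 0, 1] * !![1, t.toAdd; 0, 1]
        rw [mul_fin_two]
        simp [add_comm] }
  let v := (QuotientGroup.mk' (center (Matrix.SpecialLinearGroup (Fin 2) F))).comp u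
  have hv : Function.Injective v := by
    rw [injective_iff_map_eq_one]
    intro t ht
    have h1 : u t ∈ center (Matrix.SpecialLinearGroup (Fin 2) F) := (QuotientGroup.eq_one_iff _).1 ht
    obtain ⟨r, -, hr⟩ := Matrix.SpecialLinearGroup.mem_center_iff.1 h1
    have h2 : (scalar (Fin 2) r) 0 1 = t.toAdd := by
      rw [hr]
      rfl
    rw [scalar_apply, diagonal_apply_ne _ (by decide)] at h2
    exact Multiplicative.toAdd.injective h2.symm
  refine ⟨v.range, ?_, ?_⟩
  · rintro _ ⟨a, rfl⟩ _ ⟨b, rfl⟩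
    rw [← map_mul, ← map_mul, mul_comm]
  · rw [Nat.card_congr (MonoidHom.ofInjective hv).symm.toEquiv, ← Nat.card_eq_fintype_card]
    rfl

theorem kill_two [Fintype F] (h : Crit (Matrix.ProjectiveSpecialLinearGroup (Fin 2) F)) : False := by
  have hq : 1 < Fintype.card F := Fintype.one_lt_card
  have hc := Num.psl2 hq (Cfsg.Agent.S0243.result (F := F) rfl 2 le_rfl)
  have h81 : 3 ^ 4 ∣ Fintype.card F * (Fintype.card F ^ 2 - 1) := hc ▸ dvd_mul_of_dvd_right h.dvd _
  by_cases h3 : Fintype.card F % 3 = 0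
  · have h1 : Nat.Coprime (3 ^ 4) (Fintype.card F ^ 2 - 1) := by
      refine Num.cop3 ?_ 4
      have e1 : Fintype.card F ^ 2 % 3 = 0 := by simp [Nat.pow_mod, h3]
      have e2 : 1 ≤ Fintype.card F ^ 2 := Nat.one_le_pow _ _ (by omega)
      omega
    have h2 := h1.dvd_of_dvd_mul_right h81
    obtain ⟨A, hA, hcA⟩ := exists_root (F := F)
    have h4 := (h.ab A hA (by rw [hcA]; exact (by norm_num : 27 ∣ 3 ^ 4).trans h2)).1
    rw [hcA] at h4
    rw [h4] at h2
    norm_num at h2
  · have h0 := three_ne_zero_of h3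
    have h2 : 3 ^ 4 ∣ Fintype.card F ^ 2 - 1 := (Num.cop3 h3 4).dvd_of_dvd_mul_left h81
    obtain ⟨A, hA, hcA, -⟩ := exists_one (F := F) h0 (n := 4) (by rw [Nat.card_eq_fintype_card]; exact h2)
      (QuotientGroup.mk' (center (Matrix.SpecialLinearGroup (Fin 2) F))) (by rw [QuotientGroup.ker_mk'])
      (MonoidHom.id _) Function.injective_id
    exact h.not_eighty hA hcA

/-! ### the matrices -/

/-- the matrix of an element of `SL_n` -/
def iota (F : Type*) [Field F] (n : ℕ) : Matrix.SpecialLinearGroup (Fin n) F →* Matrix (Fin n) (Fin n) F where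
  toFun A := A.1
  map_one' := rfl
  map_mul' _ _ := rfl

theorem lin (F : Type*) [Field F] (n : ℕ) : Diag.Lin (Matrix.SpecialLinearGroup (Fin n) F) (iota F n) where
  inj := fun A B h => Subtype.ext h
  cen z hz := by
    obtain ⟨r, -, hr⟩ := Matrix.SpecialLinearGroup.mem_center_iff.1 hz
    exact ⟨r, hr.symm⟩
  sc z r hz := by
    refine Matrix.SpecialLinearGroup.mem_center_iff.2 ⟨r, ?_, hz.symm⟩
    have h1 : z.1 = diagonal fun _ => r := hz
    have h2 := z.2
    rw [h1, det_diagonal, Finset.prod_const, Finset.card_univ] at h2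
    exact h2

/-- a diagonal matrix of determinant 1 -/
def dg {n : ℕ} (t : Fin n → F) (ht : ∏ i, t i = 1) : Matrix.SpecialLinearGroup (Fin n) F :=
  ⟨diagonal t, by rw [det_diagonal, ht]⟩

theorem dg_Dg {n : ℕ} (t : Fin n → F) (ht : ∏ i, t i = 1) : Diag.Dg (iota F n) (dg t ht) t := rfl

theorem exists_orderOf [Fintype F] {m : ℕ} (h : m ∣ Fintype.card F - 1) : ∃ ζ : F, orderOf ζ = m := by
  classical
  obtain ⟨u, hu⟩ := IsCyclic.exists_generator (α := Fˣ)
  have h1 : orderOf u = Fintype.card F - 1 := by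
    rw [orderOf_eq_card_of_forall_mem_zpowers hu, Nat.card_eq_fintype_card, Fintype.card_units]
  obtain ⟨c, hc⟩ := h
  have hq : 1 < Fintype.card F := Fintype.one_lt_card
  have hc0 : c ≠ 0 := by
    rintro rfl
    omega
  refine ⟨((u ^ c : Fˣ) : F), ?_⟩
  rw [orderOf_units, orderOf_pow' _ hc0, h1, hc, Nat.gcd_mul_left_left, Nat.mul_div_cancel _ (Nat.pos_of_ne_zero hc0)]

/-! ### `n = 3` -/

theorem kill_three [Fintype F] (h : Crit (Matrix.ProjectiveSpecialLinearGroup (Fin 3) F)) : False := by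
  have hq : 1 < Fintype.card F := Fintype.one_lt_card
  have hc := Num.psl3 hq (Cfsg.Agent.S0243.result (F := F) rfl 3 (by norm_num))
  have h012 : Fintype.card F % 3 = 0 ∨ Fintype.card F % 3 = 1 ∨ Fintype.card F % 3 = 2 := by omega
  rcases h012 with h0 | h1 | h2
  · obtain ⟨m, hm, hF⟩ := exists_pow_of h0
    exact h.not_dvd (Num.psl3_zero hF hm hc h.dvd)
  · have h9 := Num.psl3_one h1 hc h.dvd
    obtain ⟨ζ, hζ⟩ := exists_orderOf (F := F) h9
    have hz9 : ζ ^ 9 = 1 := hζ ▸ pow_orderOf_eq_one ζ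
    obtain ⟨A, hA, hcA, a, ha, ho⟩ := Diag.exists_nine (lin F 3) hζ
      (dg_Dg ![1, ζ, ζ ^ 8] (by
        rw [Fin.prod_univ_three]
        change 1 * ζ * ζ ^ 8 = 1
        rw [one_mul, ← pow_succ']
        exact hz9))
      (dg_Dg ![ζ, ζ, ζ ^ 7] (by
        rw [Fin.prod_univ_three]
        change ζ * ζ * ζ ^ 7 = 1
        rw [mul_assoc, ← pow_succ', ← pow_succ']
        exact hz9))
    exact h.not_nine hA hcA ha ho
  · have h81 := Num.psl3_two h2 hc h.dvd
    have hb : 2 * 1 ≤ 3 := by norm_num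
    obtain ⟨A, hA, hcA, -⟩ := exists_one (F := F) (three_ne_zero_of (by omega)) (n := 4)
      (by rw [Nat.card_eq_fintype_card]; exact h81)
      (QuotientGroup.mk' (center (Matrix.SpecialLinearGroup (Fin 3) F))) (by rw [QuotientGroup.ker_mk'])
      (f hb 0) (f_injective hb 0)
    exact h.not_eighty hA hcA

/-! ### `n = 4, 5`, `q = 2 mod 3` -/

theorem kill_two_blocks [Fintype F] (hn : 4 ≤ n) (h : Crit (Matrix.ProjectiveSpecialLinearGroup (Fin n) F))
    (h3 : Fintype.card F % 3 ≠ 0) (h9 : 9 ∣ Fintype.card F ^ 2 - 1) : False := by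
  have hb : 2 * 2 ≤ n := hn
  have h3' := three_ne_zero_of h3
  have h9' : 3 ^ 2 ∣ Nat.card F ^ 2 - 1 := by rw [Nat.card_eq_fintype_card]; exact h9
  obtain ⟨A, hA, hcA, -⟩ := exists_two (F := F) (K := F) h3' h3' h9' h9'
    (QuotientGroup.mk' (center (Matrix.SpecialLinearGroup (Fin n) F))) (by rw [QuotientGroup.ker_mk'])
    (f hb 0) (f_injective hb 0) (f hb 1) (f_injective hb 1) (f_comm hb (by decide))
  exact h.not_eighty hA hcA

/-! ### `n = 4`, `q = 1 mod 3` -/

/-- the transvections `1 + t e_{03}` in `SL_4` -/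
def tv (F : Type*) [Field F] : Multiplicative F →* Matrix.SpecialLinearGroup (Fin 4) F where
  toFun t := ⟨Matrix.transvection 0 3 t.toAdd, Matrix.det_transvection_of_ne _ _ (by decide) _⟩
  map_one' := Subtype.ext (Matrix.transvection_zero _ _)
  map_mul' s t := Subtype.ext (by
    change Matrix.transvection 0 3 (s.toAdd + t.toAdd) = Matrix.transvection 0 3 s.toAdd *
      Matrix.transvection 0 3 t.toAdd
    rw [Matrix.transvection_mul_transvection_same _ _ (by decide)])

theorem diag_mul_tv {t : Fin 4 → F} {c c' : F} (h : t 0 * c = c' * t 3) :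
    diagonal t * Matrix.transvection (0 : Fin 4) 3 c = Matrix.transvection 0 3 c' * diagonal t := by
  unfold Matrix.transvection
  rw [mul_add, add_mul, mul_one, one_mul]
  congr 1
  ext i j
  rw [diagonal_mul, mul_diagonal]
  by_cases hi : i = 0
  · by_cases hj : j = 3
    · subst hi hj
      rw [Matrix.single_apply_same, Matrix.single_apply_same, h]
    · rw [Matrix.single_apply_of_col_ne _ _ (Ne.symm hj), Matrix.single_apply_of_col_ne _ _ (Ne.symm hj), mul_zero,
        zero_mul]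
  · rw [Matrix.single_apply_of_row_ne (Ne.symm hi), Matrix.single_apply_of_row_ne (Ne.symm hi), mul_zero, zero_mul]

theorem kill_four_one [Fintype F] (h : Crit (Matrix.ProjectiveSpecialLinearGroup (Fin 4) F))
    (h1 : Fintype.card F % 3 = 1) : False := by
  classical
  have hq : 1 < Fintype.card F := Fintype.one_lt_card
  obtain ⟨ω, hω⟩ := exists_orderOf (F := F) (m := 3) (by omega)
  have hω3 : ω ^ 3 = 1 := hω ▸ pow_orderOf_eq_one ω
  have hω1 : ω ≠ 1 := by
    rintro rfl
    rw [orderOf_one] at hω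
    norm_num at hω
  have hpr : ω * ω ^ 2 = 1 := by rw [← pow_succ']; exact hω3
  obtain ⟨E, hE, hcE, hrep⟩ := Diag.exists_four (lin F 4) hω3 hω1
    (dg_Dg ![ω, ω ^ 2, 1, 1] (by rw [Fin.prod_univ_four]; simpa using hpr))
    (dg_Dg ![1, ω, ω ^ 2, 1] (by rw [Fin.prod_univ_four]; simpa using hpr))
    (dg_Dg ![1, 1, ω, ω ^ 2] (by rw [Fin.prod_univ_four]; simpa using hpr))
  let v := (QuotientGroup.mk' (center (Matrix.SpecialLinearGroup (Fin 4) F))).comp (tv F)
  have hv : Function.Injective v := by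
    rw [injective_iff_map_eq_one]
    intro t ht
    have h1 : tv F t ∈ center (Matrix.SpecialLinearGroup (Fin 4) F) := (QuotientGroup.eq_one_iff _).1 ht
    obtain ⟨r, -, hr⟩ := Matrix.SpecialLinearGroup.mem_center_iff.1 h1
    have h2 : (scalar (Fin 4) r) 0 3 = t.toAdd := by
      rw [hr]
      change Matrix.transvection (0 : Fin 4) 3 t.toAdd 0 3 = t.toAdd
      simp [Matrix.transvection]
    rw [scalar_apply, diagonal_apply_ne _ (by decide)] at h2
    exact Multiplicative.toAdd.injective h2.symm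
  have hcard : Nat.card v.range = Fintype.card F := by
    rw [Nat.card_congr (MonoidHom.ofInjective hv).symm.toEquiv, ← Nat.card_eq_fintype_card]
    rfl
  have hbot := h.sig E hE hcE v.range (by
    rw [hcard]
    exact (Num.cop3 (a := Fintype.card F) (by omega) 1).symm) (by
    -- E normalizes the root group
    have key : ∀ a ∈ E, ∀ b ∈ v.range, a * b * a⁻¹ ∈ v.range := by
      rintro a ha _ ⟨s, rfl⟩
      obtain ⟨g, t, hd, rfl⟩ := hrep a ha
      have ht3 : t 3 ≠ 0 := by
        intro h0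
        have h2 := g.2
        have h3 : g.1 = diagonal t := hd
        rw [h3, det_diagonal, Finset.prod_eq_zero (Finset.mem_univ 3) h0] at h2
        exact zero_ne_one h2
      refine ⟨Multiplicative.ofAdd (t 0 * s.toAdd * (t 3)⁻¹), ?_⟩
      rw [eq_mul_inv_iff_mul_eq]
      change QuotientGroup.mk' (center (Matrix.SpecialLinearGroup (Fin 4) F)) _ *
        QuotientGroup.mk' (center (Matrix.SpecialLinearGroup (Fin 4) F)) g =
        QuotientGroup.mk' (center (Matrix.SpecialLinearGroup (Fin 4) F)) g *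
        QuotientGroup.mk' (center (Matrix.SpecialLinearGroup (Fin 4) F)) (tv F s)
      rw [← map_mul, ← map_mul]
      congr 1
      apply Subtype.ext
      have h3 : g.1 = diagonal t := hd
      change Matrix.transvection 0 3 (t 0 * s.toAdd * (t 3)⁻¹) * g.1 = g.1 * Matrix.transvection 0 3 s.toAdd
      rw [h3]
      refine (diag_mul_tv ?_).symm
      rw [mul_assoc, inv_mul_cancel₀ ht3, mul_one]
    intro a ha
    rw [Subgroup.mem_normalizer_iff]
    intro b
    refine ⟨key a ha b, fun hb => ?_⟩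
    have h2 := key a⁻¹ (inv_mem ha) _ hb
    have h3 : a⁻¹ * (a * b * a⁻¹) * a⁻¹⁻¹ = b := by group
    rwa [h3] at h2)
  rw [hbot] at hcard
  simp at hcard
  omega

theorem kill_five [Fintype F] (h : Crit (Matrix.ProjectiveSpecialLinearGroup (Fin 5) F)) : False := by
  have hq : 1 < Fintype.card F := Fintype.one_lt_card
  have hc := Num.psl5 hq (Cfsg.Agent.S0243.result (F := F) rfl 5 (by norm_num))
  have h012 : Fintype.card F % 3 = 0 ∨ Fintype.card F % 3 = 1 ∨ Fintype.card F % 3 = 2 := by omega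
  rcases h012 with h0 | h1 | h2
  · exact h.not_dvd (not_four_zero (by norm_num) h0)
  · exact h.not_dvd (Num.psl5_one h1 hc)
  · exact kill_two_blocks (by norm_num) h (by omega) (Num.psl5_two h2 hc h.dvd)

theorem kill_four [Fintype F] (h : Crit (Matrix.ProjectiveSpecialLinearGroup (Fin 4) F)) : False := by
  have hq : 1 < Fintype.card F := Fintype.one_lt_card
  have hc := Num.psl4 hq (Cfsg.Agent.S0243.result (F := F) rfl 4 (by norm_num))
  have h012 : Fintype.card F % 3 = 0 ∨ Fintype.card F % 3 = 1 ∨ Fintype.card F % 3 = 2 := by omega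
  rcases h012 with h0 | h1 | h2
  · exact h.not_dvd (not_four_zero (by norm_num) h0)
  · exact kill_four_one h h1
  · exact kill_two_blocks (by norm_num) h (by omega) (Num.psl4_two h2 hc h.dvd)

theorem kill [Fintype F] (hn : 2 ≤ n) (h : Crit (Matrix.ProjectiveSpecialLinearGroup (Fin n) F)) : False := by
  have hn' : n = 2 ∨ n = 3 ∨ n = 4 ∨ n = 5 ∨ 6 ≤ n := by omega
  rcases hn' with rfl | rfl | rfl | rfl | h6
  · exact kill_two h
  · exact kill_three h
  · exact kill_four h
  · exact kill_five h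
  · by_cases h0 : Fintype.card F % 3 = 0
    · exact h.not_dvd (not_four_zero (by omega) h0)
    · exact h.not_threeInv (threeInv_of_six (three_ne_zero_of h0) h6)

theorem kill_isPSL {G : Type*} [Group G] (h : Crit G) (hG : Cfsg.IsPSL G) : False := by
  obtain ⟨F, _, _, n, hn, -, ⟨e⟩⟩ := hG
  exact kill hn (h.of_equiv e)

end Cfsg.Agent.H356.KillPSL
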