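import Cfsg.Agent.H356.KillPSL
import Cfsg.Agent.S0245
import Cfsg.Agent.S0246

/-!
# `PSp_{2m}(q)` does not satisfy `Crit`, except `PSp_4(3)` (helper356)
-/

set_option autoImplicit false

namespace Cfsg.Agent.H356.KillPSp

open Matrix Subgroup Cfsg Cfsg.Agent.H356.SLTwo Cfsg.Agent.H356.SLTorus Cfsg.Agent.H356.ThreeInv
  Cfsg.Agent.H356.CommSup

variable {F : Type*} [Field F] {m : ℕ}

/-- the block matrix -/
def bm (g : Fin m → Matrix.SpecialLinearGroup (Fin 2) F) : Matrix (Fin m ⊕ Fin m) (Fin m ⊕ Fin m) F :=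
  fromBlocks (diagonal fun i => (g i : Matrix (Fin 2) (Fin 2) F) 0 0)
    (diagonal fun i => (g i : Matrix (Fin 2) (Fin 2) F) 0 1)
    (diagonal fun i => (g i : Matrix (Fin 2) (Fin 2) F) 1 0)
    (diagonal fun i => (g i : Matrix (Fin 2) (Fin 2) F) 1 1)

theorem bm_mem (g : Fin m → Matrix.SpecialLinearGroup (Fin 2) F) : bm g ∈ symplecticGroup (Fin m) F := by
  have hd : ∀ i, (g i : Matrix (Fin 2) (Fin 2) F) 0 0 * (g i : Matrix (Fin 2) (Fin 2) F) 1 1 -
      (g i : Matrix (Fin 2) (Fin 2) F) 0 1 * (g i : Matrix (Fin 2) (Fin 2) F) 1 0 = 1 := by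
    intro i
    have := (g i).2
    rw [det_fin_two] at this
    exact this
  rw [bm, SymplecticGroup.fromBlocks_mem_iff]
  simp only [diagonal_transpose, diagonal_mul_diagonal]
  refine ⟨?_, ?_, ?_⟩
  · congr 1; funext i; ring
  · congr 1; funext i; ring
  · rw [diagonal_sub, ← diagonal_one]
    congr 1
    funext i
    linear_combination hd i

theorem bm_one : bm (1 : Fin m → Matrix.SpecialLinearGroup (Fin 2) F) = 1 := by
  change fromBlocks (diagonal fun _ => (1 : Matrix (Fin 2) (Fin 2) F) 0 0)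
    (diagonal fun _ => (1 : Matrix (Fin 2) (Fin 2) F) 0 1)
    (diagonal fun _ => (1 : Matrix (Fin 2) (Fin 2) F) 1 0)
    (diagonal fun _ => (1 : Matrix (Fin 2) (Fin 2) F) 1 1) = 1
  rw [← fromBlocks_one]
  simp

theorem bm_mul (g g' : Fin m → Matrix.SpecialLinearGroup (Fin 2) F) : bm (g * g') = bm g * bm g' := by
  have h1 : ∀ i a c, ((g * g') i : Matrix (Fin 2) (Fin 2) F) a c =
      (g i : Matrix (Fin 2) (Fin 2) F) a 0 * (g' i : Matrix (Fin 2) (Fin 2) F) 0 c +
      (g i : Matrix (Fin 2) (Fin 2) F) a 1 * (g' i : Matrix (Fin 2) (Fin 2) F) 1 c := by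
    intro i a c
    change ((g i : Matrix (Fin 2) (Fin 2) F) * (g' i : Matrix (Fin 2) (Fin 2) F)) a c = _
    rw [mul_apply, Fin.sum_univ_two]
  rw [bm, bm, bm, fromBlocks_multiply]
  simp only [diagonal_mul_diagonal, diagonal_add, h1]

/-- `SL_2(F)^m → Sp_2m(F)` -/
def hom : (Fin m → Matrix.SpecialLinearGroup (Fin 2) F) →* symplecticGroup (Fin m) F where
  toFun g := ⟨bm g, bm_mem g⟩
  map_one' := Subtype.ext bm_one
  map_mul' g g' := Subtype.ext (bm_mul g g')

theorem hom_injective : Function.Injective (hom (F := F) (m := m)) := by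
  intro g g' h
  have h1 : bm g = bm g' := congrArg Subtype.val h
  funext i
  apply Subtype.ext
  ext a b
  fin_cases a <;> fin_cases b
  · have := congrFun (congrFun h1 (Sum.inl i)) (Sum.inl i)
    simpa [bm] using this
  · have := congrFun (congrFun h1 (Sum.inl i)) (Sum.inr i)
    simpa [bm] using this
  · have := congrFun (congrFun h1 (Sum.inr i)) (Sum.inl i)
    simpa [bm] using this
  · have := congrFun (congrFun h1 (Sum.inr i)) (Sum.inr i)
    simpa [bm] using this

/-- the `i`-th block -/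
def f (i : Fin m) : Matrix.SpecialLinearGroup (Fin 2) F →* symplecticGroup (Fin m) F :=
  hom.comp (MonoidHom.mulSingle (fun _ => Matrix.SpecialLinearGroup (Fin 2) F) i)

theorem f_injective (i : Fin m) : Function.Injective (f (F := F) i) := by
  intro a b hab
  have h1 : Pi.mulSingle i a = (Pi.mulSingle i b : Fin m → Matrix.SpecialLinearGroup (Fin 2) F) := hom_injective hab
  have h2 := congrFun h1 i
  rwa [Pi.mulSingle_eq_same, Pi.mulSingle_eq_same] at h2

theorem f_comm {i j : Fin m} (hij : i ≠ j) (a b : Matrix.SpecialLinearGroup (Fin 2) F) :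
    f i a * f j b = f j b * f i a := by
  change hom (Pi.mulSingle i a) * hom (Pi.mulSingle j b) = hom (Pi.mulSingle j b) * hom (Pi.mulSingle i a)
  rw [← map_mul, ← map_mul]
  congr 1
  exact Pi.mulSingle_commute hij _ _

theorem f_ne_one (i : Fin m) : f i (X3 F) ≠ 1 := by
  intro h1
  exact X3_ne_one (f_injective i (h1.trans (map_one _).symm))

theorem threeInv [Finite F] (h3 : (3 : F) ≠ 0) (hm : 3 ≤ m) : ThreeInv (PSp m F) := by
  let i0 : Fin m := ⟨0, by omega⟩
  let i1 : Fin m := ⟨1, by omega⟩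
  let i2 : Fin m := ⟨2, by omega⟩
  have h01 : i0 ≠ i1 := by simp [i0, i1]
  have h02 : i0 ≠ i2 := by simp [i0, i2]
  have h12 : i1 ≠ i2 := by simp [i1, i2]
  exact (threeInv_of_homs h3 h3 h3 (f i0) (f i1) (f i2) (f_ne_one _) (f_ne_one _) (f_ne_one _)
    (f_comm h01) (f_comm h02) (f_comm h12)).quot

theorem card [Fintype F] (hm : 1 ≤ m) : Nat.gcd 2 (Fintype.card F - 1) * Nat.card (PSp m F) =
    Fintype.card F ^ (m ^ 2) * ∏ i ∈ Finset.range m, (Fintype.card F ^ (2 * (i + 1)) - 1) := by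
  have h1 := Cfsg.Agent.S0245.result (F := F) rfl m
  have h2 := Cfsg.Agent.S0246.result (F := F) rfl m hm
  have h3 := Subgroup.card_eq_card_quotient_mul_card_subgroup
    (Subgroup.center (Matrix.symplecticGroup (Fin m) F))
  rw [h1, h2] at h3
  rw [mul_comm]
  exact h3.symm

theorem gcd_cop {q : ℕ} (k : ℕ) : Nat.Coprime (3 ^ k) (Nat.gcd 2 (q - 1)) :=
  Nat.Coprime.coprime_dvd_right (Nat.gcd_dvd_left _ _) (Nat.Coprime.pow_left _ (by norm_num))

theorem zero [Fintype F] (hm : 2 ≤ m) (h0 : Fintype.card F % 3 = 0) (h : ¬ (m = 2 ∧ Fintype.card F = 3)) :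
    243 ∣ Nat.card (PSp m F) := by
  obtain ⟨k, hk, hF⟩ := KillPSL.exists_pow_of h0
  have h1 : 5 ≤ k * m ^ 2 := by
    by_cases hm2 : m = 2
    · subst hm2
      have : k ≠ 1 := by
        rintro rfl
        exact h ⟨rfl, by rw [hF]; norm_num⟩
      omega
    · have : 3 ≤ m := by omega
      nlinarith
  have h2 : 3 ^ 5 ∣ Fintype.card F ^ (m ^ 2) := by
    rw [hF, ← pow_mul]
    exact pow_dvd_pow 3 h1
  have h3 : 3 ^ 5 ∣ Nat.gcd 2 (Fintype.card F - 1) * Nat.card (PSp m F) := by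
    rw [card (F := F) (m := m) (by omega)]
    exact dvd_mul_of_dvd_left h2 _
  exact (gcd_cop 5).dvd_of_dvd_mul_left h3

theorem nine [Fintype F] (h3 : Fintype.card F % 3 ≠ 0) (h81 : 81 ∣ Nat.card (PSp 2 F)) :
    9 ∣ Fintype.card F ^ 2 - 1 := by
  have h1 : 81 ∣ Nat.gcd 2 (Fintype.card F - 1) * Nat.card (PSp 2 F) := dvd_mul_of_dvd_right h81 _
  rw [card (F := F) (m := 2) (by norm_num), Finset.prod_range_succ, Finset.prod_range_succ, Finset.prod_range_zero] at h1
  norm_num at h1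
  rw [Num.four_sub] at h1
  refine Num.sq_dvd (c := Fintype.card F ^ 4 * (Fintype.card F ^ 2 + 1)) ?_ (Num.three_dvd h3) ?_
  · have e1 : Fintype.card F ^ 2 % 3 = 1 := Num.sq_mod h3
    have e2 : Fintype.card F ^ 4 % 3 = 1 := by
      rw [show 4 = 2 * 2 by norm_num, pow_mul, Nat.pow_mod, e1]
    rw [Nat.mul_mod, e2, Nat.add_mod, e1]
    norm_num
  · convert h1 using 1
    ring

theorem kill [Fintype F] (hm : 2 ≤ m) (h : Crit (PSp m F)) : m = 2 ∧ Fintype.card F = 3 := by
  by_contra hne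
  by_cases h0 : Fintype.card F % 3 = 0
  · exact h.not_dvd (zero hm h0 hne)
  · have h3 := KillPSL.three_ne_zero_of h0
    by_cases hm2 : m = 2
    · subst hm2
      have h9 : 3 ^ 2 ∣ Nat.card F ^ 2 - 1 := by
        rw [Nat.card_eq_fintype_card]
        exact nine h0 h.dvd
      obtain ⟨A, hA, hcA, -⟩ := exists_two (F := F) (K := F) h3 h3 h9 h9
        (QuotientGroup.mk' (center (symplecticGroup (Fin 2) F))) (by rw [QuotientGroup.ker_mk'])
        (f 0) (f_injective 0) (f 1) (f_injective 1) (f_comm (by decide))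
      exact h.not_eighty hA hcA
    · exact h.not_threeInv (threeInv h3 (by omega))

theorem isPSp {G : Type*} [Group G] (h : Crit G) (hG : Cfsg.IsPSp G) :
    ∃ (F : Type) (_ : Field F) (_ : Fintype F), Fintype.card F = 3 ∧ Nonempty (G ≃* PSp 2 F) := by
  obtain ⟨F, _, _, m, hm, -, ⟨e⟩⟩ := hG
  obtain ⟨rfl, h3⟩ := kill hm (h.of_equiv e)
  exact ⟨F, inferInstance, inferInstance, h3, ⟨e⟩⟩

end Cfsg.Agent.H356.KillPSp
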