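import Cfsg.Agent.H321.SpecEven.Defs
import Cfsg.Agent.H356.OddClass
import Cfsg.Agent.H352.LN.CrossSmall

/-!
# Odd characteristic rows of S3458 and S3463 (`n = 2^t + 1`, `t ≥ 3`) (helper356)
-/

set_option autoImplicit false

namespace Cfsg.Agent.H356.OddCand

open Cfsg.Agent.H321.SpecEven Cfsg.Agent.H403.NumTop Cfsg.Agent.H376.Coc Cfsg.Agent.H356.OddClass

variable {e : Bool} {t k : ℕ} {S : Type*} [Group S]

theorem dvd_AA_od {r : ℕ} : r ∣ AA e (od e (2 ^ k) r) (2 ^ k) := by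
  rw [dvd_AA_iff (Nat.one_le_two_pow)]
  exact pow_orderOf_eq_one _

theorem ne_two_of_od {r i : ℕ} (hr : r.Prime) (hk : 1 ≤ k) (h : od e (2 ^ k) r = i) (hi : 1 ≤ i) : r ≠ 2 := by
  rintro rfl
  have : Fact (Nat.Prime 2) := ⟨Nat.prime_two⟩
  apply ne_zero_of_order hi h
  unfold xv
  obtain ⟨j, rfl⟩ := Nat.exists_eq_succ_of_ne_zero (by omega : k ≠ 0)
  have h2 : ((2 ^ (j + 1) : ℕ) : ZMod 2) = 0 := by
    rw [ZMod.natCast_eq_zero_iff]
    exact dvd_pow_self 2 (by omega)
  split_ifs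
  · push_cast at h2 ⊢
    exact h2
  · push_cast at h2 ⊢
    rw [h2, neg_zero]

theorem le_of_od {r i : ℕ} (hr : r.Prime) (h : od e (2 ^ k) r = i) (hi : 1 ≤ i) : i < r := by
  have h1 := order_dvd_pred hr hi h
  have h2 := hr.two_le
  have := Nat.le_of_dvd (by omega) h1
  omega

/-- the two far primes -/
theorem twoSep [Finite S] (h : Cand e t k S) {r s : ℕ} (hr : r.Prime) (hs : s.Prime) (hro : od e (2 ^ k) r = 2 ^ t + 1)
    (hso : od e (2 ^ k) s = 2 ^ t) : TwoSep S r s := by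
  have ht := h.ht
  have h4 : 4 ≤ 2 ^ t := by
    calc 4 = 2 ^ 2 := by norm_num
      _ ≤ 2 ^ t := Nat.pow_le_pow_right (by norm_num) ht
  have hdr : ∃ g : S, orderOf g = r := by
    refine h.ex_top r ?_ ?_
    · intro w hw hwr
      rw [(Nat.prime_dvd_prime_iff_eq hw hr).1 hwr, hro]
    · have := dvd_AA_od (e := e) (k := k) (r := r)
      rwa [hro] at this
  have hds : ∃ g : S, orderOf g = s := by
    refine h.ex_pred s ?_ ?_
    · intro w hw hwr
      rw [(Nat.prime_dvd_prime_iff_eq hw hs).1 hwr, hso]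
    · have := dvd_AA_od (e := e) (k := k) (r := s)
      rwa [hso] at this
  have hfar : ∀ w : ℕ, w.Prime → 2 ^ t ≤ od e (2 ^ k) w → ¬ ∃ x : S, orderOf x = 2 * w := by
    intro w hw hwo hx
    have := h.two_mul 1 w hw (by omega) le_rfl (by simpa using hx)
    simp only [Nat.sub_self, pow_zero] at this
    omega
  have hne : r ≠ s := by
    rintro rfl
    omega
  exact {
    pr := hr
    ps := hs
    r2 := ne_two_of_od hr h.hk hro (by omega)
    s2 := ne_two_of_od hs h.hk hso (by omega)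
    ne := hne
    dr := by obtain ⟨g, hg⟩ := hdr; rw [← hg]; exact orderOf_dvd_natCard g
    ds := by obtain ⟨g, hg⟩ := hds; rw [← hg]; exact orderOf_dvd_natCard g
    far_r := hfar r hr (by omega)
    far_s := hfar s hs (by omega)
    sep := by
      refine h.adj r s hr hs (by omega) (by omega) (by omega) ?_ ?_
      · rw [hro, hso]
        intro hd
        have := Nat.le_of_dvd (by positivity) hd
        omega
      · rw [hro, hso]
        intro hd
        have h1 : 2 ^ t ∣ 1 := by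
          have := Nat.dvd_sub hd (dvd_refl (2 ^ t))
          simpa using this
        have := Nat.le_of_dvd one_pos h1
        omega }

/-- the coclique -/
theorem exists_coc [Finite S] (h : Cand e t k S) (ht3 : 3 ≤ t) (hne : ¬ (e = true ∧ k = 1 ∧ t = 3)) :
    ∃ C : Finset ℕ, IsCoc S C ∧ (∀ s ∈ C, 5 ≤ s) ∧ 2 ^ (t - 1) ≤ C.card := by
  classical
  have hk := h.hk
  have h8 : 4 ≤ 2 ^ (t - 1) := by
    calc 4 = 2 ^ 2 := by norm_num
      _ ≤ 2 ^ (t - 1) := Nat.pow_le_pow_right (by norm_num) (by omega)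
  have hd : 2 ^ t = 2 * 2 ^ (t - 1) := by
    rw [← pow_succ', show t - 1 + 1 = t by omega]
  have hex : ∀ i ∈ Finset.Icc (2 ^ (t - 1) + 1) (2 ^ t + 1), ∃ r : ℕ, r.Prime ∧ od e (2 ^ k) r = i := by
    intro i hi
    rw [Finset.mem_Icc] at hi
    obtain ⟨r, hr, -, hro⟩ := exists_prime (e := e) (i := i) (q := 2 ^ k) (by
      calc 2 = 2 ^ 1 := by norm_num
        _ ≤ 2 ^ k := Nat.pow_le_pow_right (by norm_num) hk) (by omega) (by
      rintro (⟨h1, h2, h3⟩ | ⟨-, h2, -⟩)
      · apply hne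
        refine ⟨h1, ?_, ?_⟩
        · have : 2 ^ k = 2 ^ 1 := by rw [h3]; norm_num
          exact Nat.pow_right_injective le_rfl this
        · by_contra ht
          have : 8 ≤ 2 ^ (t - 1) := by
            calc 8 = 2 ^ 3 := by norm_num
              _ ≤ 2 ^ (t - 1) := Nat.pow_le_pow_right (by norm_num) (by omega)
          omega
      · omega)
    exact ⟨r, hr, hro⟩
  choose! f hf hfo using hex
  set I := Finset.Icc (2 ^ (t - 1) + 1) (2 ^ t + 1) with hI
  have hinj : Set.InjOn f I := by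
    intro i hi j hj hij
    rw [← hfo i hi, ← hfo j hj, hij]
  set ρ := I.image f with hρ
  have hρc : ρ.card = 2 ^ (t - 1) + 1 := by
    rw [hρ, Finset.card_image_of_injOn hinj, hI, Nat.card_Icc]
    omega
  have hmem : ∀ r ∈ ρ, r.Prime ∧ 2 ^ (t - 1) + 1 ≤ od e (2 ^ k) r ∧ od e (2 ^ k) r ≤ 2 ^ t + 1 := by
    intro r hr
    obtain ⟨i, hi, rfl⟩ := Finset.mem_image.1 hr
    rw [hfo i hi]
    exact ⟨hf i hi, Finset.mem_Icc.1 hi⟩
  have huniq : ∀ r ∈ ρ, ∀ s ∈ ρ, od e (2 ^ k) r = od e (2 ^ k) s → r = s := by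
    intro r hr s hs hrs
    obtain ⟨i, hi, rfl⟩ := Finset.mem_image.1 hr
    obtain ⟨j, hj, rfl⟩ := Finset.mem_image.1 hs
    rw [hfo i hi, hfo j hj] at hrs
    rw [hrs]
  have hone : ∀ r ∈ ρ, ∀ s ∈ ρ, r ≠ s → r ∣ Nat.card S ∨ s ∣ Nat.card S :=
    h.coc ρ (fun r hr => ⟨(hmem r hr).1, by have := (hmem r hr).2.1; omega, (hmem r hr).2.2⟩) huniq (by omega)
  set C := ρ.filter (· ∣ Nat.card S) with hC
  have hcard : ρ.card ≤ C.card + 1 := by
    have h1 := Finset.card_filter_add_card_filter_not (s := ρ) (· ∣ Nat.card S)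
    have h2 : (ρ.filter (fun r => ¬ r ∣ Nat.card S)).card ≤ 1 := by
      rw [Finset.card_le_one]
      intro a ha b hb
      rw [Finset.mem_filter] at ha hb
      by_contra hab
      rcases hone a ha.1 b hb.1 hab with h3 | h3
      · exact ha.2 h3
      · exact hb.2 h3
    rw [← hC] at h1
    omega
  refine ⟨C, ⟨?_, ?_, ?_⟩, ?_, by omega⟩
  · intro r hr
    exact (hmem r (Finset.mem_filter.1 hr).1).1
  · intro r hr
    exact (Finset.mem_filter.1 hr).2
  · intro r hr s hs hrs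
    obtain ⟨hr1, hr2, hr3⟩ := hmem r (Finset.mem_filter.1 hr).1
    obtain ⟨hs1, hs2, hs3⟩ := hmem s (Finset.mem_filter.1 hs).1
    have hne2 : od e (2 ^ k) r ≠ od e (2 ^ k) s := fun h1 =>
      hrs (huniq r (Finset.mem_filter.1 hr).1 s (Finset.mem_filter.1 hs).1 h1)
    have hnd : ∀ a b : ℕ, 2 ^ (t - 1) + 1 ≤ a → 2 ^ (t - 1) + 1 ≤ b → b ≤ 2 ^ t + 1 → a ≠ b → ¬ a ∣ b := by
      intro a b ha hb hb2 hab ⟨c, hc⟩
      rcases Nat.lt_or_ge c 2 with h1 | h1
      · interval_cases c <;> omega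
      · have : a * 2 ≤ a * c := Nat.mul_le_mul_left a h1
        omega
    exact h.adj r s hr1 hs1 (by omega) (by omega) (by omega) (hnd _ _ hr2 hs2 hs3 hne2) (hnd _ _ hs2 hr2 hr3 hne2.symm)
  · intro r hr
    obtain ⟨hr1, hr2, -⟩ := hmem r (Finset.mem_filter.1 hr).1
    have := le_of_od (e := e) (k := k) hr1 rfl (by omega : 1 ≤ od e (2 ^ k) r)
    omega

theorem od_true (r : ℕ) : od true (2 ^ 1) r = orderOf (2 : ZMod r) := by
  unfold od xv
  norm_num

theorem exists_true (i : ℕ) (hi : 3 ≤ i) (h6 : i ≠ 6) : ∃ r : ℕ, r.Prime ∧ orderOf (2 : ZMod r) = i := by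
  obtain ⟨r, hr, -, hro⟩ := exists_prime (e := true) (i := i) (q := 2 ^ 1) (by norm_num) hi (by
    rintro (⟨-, h2, -⟩ | ⟨h2, -, -⟩)
    · exact h6 h2
    · exact absurd h2 (by decide))
  refine ⟨r, hr, ?_⟩
  rw [← od_true]
  exact hro

/-- `L = PSL_9(2)` -/
theorem nine_two [Finite S] (h : Cand true 3 1 S) {p : ℕ} (hp : p.Prime) (hp2 : p ≠ 2) (hS : Cfsg.IsLieTypeChar p S) :
    False := by
  classical
  have hord : ∀ w : ℕ, w.Prime → (orderOf (2 : ZMod w) = 9 ∨ orderOf (2 : ZMod w) = 9 - 1) → w ∣ Nat.card S := by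
    intro w hw hwo
    obtain ⟨g, hg⟩ : ∃ g : S, orderOf g = w := by
      rcases hwo with hwo | hwo
      · refine h.ex_top w ?_ ?_
        · intro v hv hvw
          rw [(Nat.prime_dvd_prime_iff_eq hv hw).1 hvw, od_true, hwo]
          norm_num
        · have := dvd_AA_od (e := true) (k := 1) (r := w)
          rwa [od_true, hwo] at this
      · refine h.ex_pred w ?_ ?_
        · intro v hv hvw
          rw [(Nat.prime_dvd_prime_iff_eq hv hw).1 hvw, od_true, hwo]
          norm_num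
        · have := dvd_AA_od (e := true) (k := 1) (r := w)
          rwa [od_true, hwo] at this
    rw [← hg]
    exact orderOf_dvd_natCard g
  have key := Cfsg.Agent.H352.LN.cross_small (n := 9) (by norm_num) (by norm_num) hp hp2
    (Cfsg.Agent.H414.LieShape.shape_of_lie hp hS)
    (fun w hw hw2 hwd => by
      have := (h.prime_ok w hw hw2 hwd).2
      rw [od_true] at this
      omega)
    hord
    (by
      intro u v hu hv h1 h2 h3 h4 h5
      by_cases hu8 : orderOf (2 : ZMod u) = 9 ∨ orderOf (2 : ZMod u) = 9 - 1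
      · exact Or.inl (hord u hu hu8)
      by_cases hv8 : orderOf (2 : ZMod v) = 9 ∨ orderOf (2 : ZMod v) = 9 - 1
      · exact Or.inr (hord v hv hv8)
      obtain ⟨w, hw, hwo⟩ := exists_true 8 (by norm_num) (by norm_num)
      have huv : u ≠ v := by
        rintro rfl
        exact h5 rfl
      have huw : u ≠ w := by
        rintro rfl
        exact hu8 (Or.inr hwo)
      have hvw : v ≠ w := by
        rintro rfl
        exact hv8 (Or.inr hwo)
      refine h.coc {u, v, w} ?_ ?_ ?_ u (by simp) v (by simp) huv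
      · intro r hr
        simp only [Finset.mem_insert, Finset.mem_singleton] at hr
        rw [od_true]
        rcases hr with rfl | rfl | rfl
        · exact ⟨hu, by omega, by omega⟩
        · exact ⟨hv, by omega, by omega⟩
        · exact ⟨hw, by omega, by omega⟩
      · intro r hr s hs hrs
        simp only [Finset.mem_insert, Finset.mem_singleton] at hr hs
        rw [od_true, od_true] at hrs
        rcases hr with rfl | rfl | rfl <;> rcases hs with rfl | rfl | rfl <;> first | rfl | omega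
      · rw [Finset.card_insert_of_notMem, Finset.card_insert_of_notMem, Finset.card_singleton]
        · simpa using hvw
        · simp only [Finset.mem_insert, Finset.mem_singleton, not_or]
          exact ⟨huv, huw⟩)
  omega

theorem exists_od {i : ℕ} (hk : 1 ≤ k) (hi : 7 ≤ i) : ∃ r : ℕ, r.Prime ∧ od e (2 ^ k) r = i := by
  obtain ⟨r, hr, -, hro⟩ := exists_prime (e := e) (i := i) (q := 2 ^ k) (by
    calc 2 = 2 ^ 1 := by norm_num
      _ ≤ 2 ^ k := Nat.pow_le_pow_right (by norm_num) hk) (by omega) (by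
    rintro (⟨-, h2, -⟩ | ⟨-, h2, -⟩) <;> omega)
  exact ⟨r, hr, hro⟩

/-- the element of order `q ^ (2 ^ (t - 1)) + 1` -/
theorem exists_big (h : Cand e t k S) : ∃ j : ℕ, 1 ≤ j ∧ (∃ g : S, orderOf g = 2 ^ j + 1) ∧
    ∀ s : ℕ, s.Prime → s ∣ 2 ^ j + 1 → ¬ ∃ x : S, orderOf x = 2 * s := by
  have hk := h.hk
  have ht := h.ht
  have hd : 2 ^ t = 2 ^ (t - 1) * 2 := by
    rw [← pow_succ, show t - 1 + 1 = t by omega]
  have heven : Even (2 ^ (t - 1)) := ⟨2 ^ (t - 2), by
    rw [← two_mul, ← pow_succ', show t - 2 + 1 = t - 1 by omega]⟩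
  have hod : ∀ s : ℕ, s.Prime → s ∣ 2 ^ (k * 2 ^ (t - 1)) + 1 → od e (2 ^ k) s = 2 ^ t := by
    intro s hs hsd
    have := Fact.mk hs
    have h1 : ((xv e (2 ^ k) : ℤ) : ZMod s) ^ (2 ^ (t - 1)) = -1 := by
      have h2 : ((2 ^ (k * 2 ^ (t - 1)) + 1 : ℕ) : ZMod s) = 0 := (ZMod.natCast_eq_zero_iff _ _).2 hsd
      push_cast at h2
      have h3 : ((xv e (2 ^ k) : ℤ) : ZMod s) ^ (2 ^ (t - 1)) = (2 : ZMod s) ^ (k * 2 ^ (t - 1)) := by
        unfold xv
        split_ifs
        · push_cast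
          rw [← pow_mul]
        · push_cast
          rw [heven.neg_pow, ← pow_mul]
      rw [h3]
      exact eq_neg_of_add_eq_zero_left h2
    have hs2 : s ≠ 2 := by
      rintro rfl
      have h3 : Even (2 ^ (k * 2 ^ (t - 1))) := (even_two).pow_of_ne_zero (by positivity)
      rw [← even_iff_two_dvd] at hsd
      exact (Nat.not_even_iff_odd.2 h3.add_one) hsd
    have hneg : (-1 : ZMod s) ≠ 1 := by
      have : Fact (2 < s) := ⟨by have := hs.two_le; omega⟩
      exact ZMod.neg_one_ne_one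
    unfold od
    have h4 : t - 1 + 1 = t := by omega
    rw [← h4]
    refine orderOf_eq_prime_pow ?_ ?_
    · rw [h1]
      exact hneg
    · rw [pow_succ, pow_mul, h1]
      ring
  refine ⟨k * 2 ^ (t - 1), Nat.one_le_iff_ne_zero.2 (by positivity), ?_, ?_⟩
  · refine h.ex_pred _ (fun r hr hrd => hod r hr hrd) ?_
    rw [dvd_AA_iff Nat.one_le_two_pow]
    have h2 : ((2 ^ (k * 2 ^ (t - 1)) + 1 : ℕ) : ZMod (2 ^ (k * 2 ^ (t - 1)) + 1)) = 0 := by
      rw [ZMod.natCast_self]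
    push_cast at h2
    have h3 : ((xv e (2 ^ k) : ℤ) : ZMod (2 ^ (k * 2 ^ (t - 1)) + 1)) ^ (2 ^ (t - 1)) =
        (2 : ZMod (2 ^ (k * 2 ^ (t - 1)) + 1)) ^ (k * 2 ^ (t - 1)) := by
      unfold xv
      split_ifs
      · push_cast
        rw [← pow_mul]
      · push_cast
        rw [heven.neg_pow, ← pow_mul]
    rw [hd]
    refine (pow_mul (((xv e (2 ^ k) : ℤ) : ZMod (2 ^ (k * 2 ^ (t - 1)) + 1))) (2 ^ (t - 1)) 2).trans ?_
    rw [h3, eq_neg_of_add_eq_zero_left h2]
    ring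
  · intro s hs hsd hx
    have hso := hod s hs hsd
    have h4 : 4 ≤ 2 ^ t := by
      calc 4 = 2 ^ 2 := by norm_num
        _ ≤ 2 ^ t := Nat.pow_le_pow_right (by norm_num) ht
    have := h.two_mul 1 s hs (by omega) le_rfl (by simpa using hx)
    simp only [Nat.sub_self, pow_zero] at this
    omega

/-- **The rows of odd characteristic, up to the exceptional groups.** -/
theorem odd_char_of [Finite S] (ht : 3 ≤ t) (h : Cand e t k S) {p : ℕ} (hp : p.Prime) (hp2 : p ≠ 2)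
    (hS : Cfsg.IsLieTypeChar p S)
    (hexc : (Cfsg.IsExceptionalChevChar p S ∨ Cfsg.IsTwistedE6D4Char p S ∨ (p = 3 ∧ Cfsg.Lie.IsoRee S)) →
      ∀ j : ℕ, 1 ≤ j → ∀ g : S, orderOf g = 2 ^ j + 1 → (∀ s : ℕ, s.Prime → s ∣ 2 ^ j + 1 → ¬ ∃ x : S, orderOf x = 2 * s) →
        False) : False := by
  have hcl : ∀ h0 : Cfsg.IsPSLChar p S ∨ Cfsg.IsPSpChar p S ∨ Cfsg.IsPSUChar p S ∨ Cfsg.IsPOmegaOddChar p S ∨
      Cfsg.IsPOmegaPlusChar p S ∨ Cfsg.IsPOmegaMinusChar p S, False := by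
    intro h0
    by_cases hne : e = true ∧ k = 1 ∧ t = 3
    · obtain ⟨rfl, rfl, rfl⟩ := hne
      exact nine_two h hp hp2 hS
    · have h8 : 8 ≤ 2 ^ t := by
        calc 8 = 2 ^ 3 := by norm_num
          _ ≤ 2 ^ t := Nat.pow_le_pow_right (by norm_num) ht
      obtain ⟨r, hr, hro⟩ := exists_od (e := e) (k := k) (i := 2 ^ t + 1) h.hk (by omega)
      obtain ⟨s, hs, hso⟩ := exists_od (e := e) (k := k) (i := 2 ^ t) h.hk (by omega)
      have hT := twoSep h hr hs hro hso
      obtain ⟨C, hC, h5, hc⟩ := exists_coc h ht hne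
      have h4 : 4 ≤ 2 ^ (t - 1) := by
        calc 4 = 2 ^ 2 := by norm_num
          _ ≤ 2 ^ (t - 1) := Nat.pow_le_pow_right (by norm_num) (by omega)
      have hbig : Big (2 ^ (t - 1)) C := by
        refine ⟨?_, h4, by omega, fun _ => by omega⟩
        have : 2 ^ 2 ∣ 2 ^ (t - 1) := pow_dvd_pow 2 (by omega)
        simpa using this
      obtain ⟨u, hu, hu1, hfull⟩ := classical hp hp2 h0 hT hC h5 hbig
      obtain ⟨w, hw, hw2, g, hg⟩ := hfull.exists_two_pow hu hu1 ht
      have h5 := h.two g (by rw [hg]; exact Dvd.intro _ rfl)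
      rw [hg] at h5
      have h6 := hw.two_le
      have h7 : 0 < 2 ^ (t + 1) := by positivity
      have h8 : 2 ^ (t + 1) * 2 ≤ 2 ^ (t + 1) * w := Nat.mul_le_mul_left _ h6
      omega
  have hex : (Cfsg.IsExceptionalChevChar p S ∨ Cfsg.IsTwistedE6D4Char p S ∨ (p = 3 ∧ Cfsg.Lie.IsoRee S)) → False := by
    intro h0
    obtain ⟨j, hj, ⟨g, hg⟩, hfar⟩ := exists_big h
    exact hexc h0 j hj g hg hfar
  rcases hS with h0 | h0 | h0 | h0 | h0 | h0 | h0 | h0 | h0 | h0 | h0
  · exact hcl (Or.inl h0)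
  · exact hcl (Or.inr (Or.inl h0))
  · exact hcl (Or.inr (Or.inr (Or.inl h0)))
  · exact hcl (Or.inr (Or.inr (Or.inr (Or.inl h0))))
  · exact hcl (Or.inr (Or.inr (Or.inr (Or.inr (Or.inl h0)))))
  · exact hcl (Or.inr (Or.inr (Or.inr (Or.inr (Or.inr h0)))))
  · exact hex (Or.inl h0)
  · exact hex (Or.inr (Or.inl h0))
  · exact hp2 h0.1
  · exact hp2 h0.1
  · exact hex (Or.inr (Or.inr h0))

end Cfsg.Agent.H356.OddCand
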