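import Cfsg.Agent.H356.SLTwo
import Cfsg.Agent.S0262
import Cfsg.Agent.ClassicalGeometry.PSL2Basic

/-!
# Elements of 3-power order in `SL₂`, and abelian 3-subgroups from commuting `SL₂`'s (helper356)
-/

set_option autoImplicit false

namespace Cfsg.Agent.H356.SLTorus

open Matrix Subgroup Cfsg.Agent.H356.ThreeInv Cfsg.Agent.H356.CommSup

variable {F : Type*} [Field F]

theorem sq_of_center {z : Matrix.SpecialLinearGroup (Fin 2) F} (hz : z ∈ center (Matrix.SpecialLinearGroup (Fin 2) F)) :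
    z ^ 2 = 1 := by
  obtain ⟨r, hr, h⟩ := Matrix.SpecialLinearGroup.mem_center_iff.1 hz
  rw [Fintype.card_fin] at hr
  apply Subtype.ext
  rw [Matrix.SpecialLinearGroup.coe_pow, ← h, Matrix.SpecialLinearGroup.coe_one, ← map_pow, hr, map_one]

/-- a 3-element of `SL₂` in the centre is trivial -/
theorem eq_one_of_center {z : Matrix.SpecialLinearGroup (Fin 2) F}
    (hz : z ∈ center (Matrix.SpecialLinearGroup (Fin 2) F)) {n : ℕ} (hn : z ^ 3 ^ n = 1) : z = 1 := by
  have h1 := orderOf_dvd_of_pow_eq_one (sq_of_center hz)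
  have h2 := orderOf_dvd_of_pow_eq_one hn
  have h3 : Nat.Coprime 2 (3 ^ n) := by
    apply Nat.Coprime.pow_right
    norm_num
  have h4 := Nat.dvd_gcd h1 h2
  rw [Nat.Coprime.gcd_eq_one h3] at h4
  exact orderOf_eq_one_iff.1 (Nat.dvd_one.1 h4)

theorem exists_order [Finite F] (h3 : (3 : F) ≠ 0) {n : ℕ} (hn : 3 ^ n ∣ Nat.card F ^ 2 - 1) :
    ∃ y : Matrix.SpecialLinearGroup (Fin 2) F, orderOf y = 3 ^ n := by
  have := Fintype.ofFinite F
  have : Fact (Nat.Prime 3) := ⟨Nat.prime_three⟩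
  obtain ⟨p, hp⟩ := CharP.exists F
  have hpp : p.Prime := (CharP.char_is_prime_or_zero F p).resolve_right (CharP.char_ne_zero_of_finite F p)
  have : Fact p.Prime := ⟨hpp⟩
  have hp3 : 3 ≠ p := by
    rintro rfl
    exact h3 (by exact_mod_cast CharP.cast_eq_zero F 3)
  let P : Sylow 3 (Matrix.SpecialLinearGroup (Fin 2) F) := default
  have hc : IsCyclic (P : Subgroup (Matrix.SpecialLinearGroup (Fin 2) F)) :=
    Cfsg.Agent.S0262.result p 3 (by norm_num) hp3 P
  obtain ⟨g, hg⟩ := hc.exists_generator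
  have hcard : orderOf g = Nat.card (P : Subgroup (Matrix.SpecialLinearGroup (Fin 2) F)) :=
    orderOf_eq_card_of_forall_mem_zpowers hg
  have hd : 3 ^ n ∣ orderOf g := by
    rw [hcard]
    refine P.pow_dvd_card_of_pow_dvd_card ?_
    rw [Cfsg.Agent.ClassicalGeometry.PSL2Basic.card_SL2, ← Nat.card_eq_fintype_card]
    exact dvd_mul_of_dvd_right hn _
  obtain ⟨m, hm⟩ := hd
  have hg0 : 0 < orderOf g := orderOf_pos g
  refine ⟨(g : Matrix.SpecialLinearGroup (Fin 2) F) ^ m, ?_⟩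
  have hm0 : m ≠ 0 := by
    rintro rfl
    omega
  rw [orderOf_pow' _ hm0]
  rw [Subgroup.orderOf_coe, hm, Nat.gcd_mul_left_left, Nat.mul_div_cancel _ (Nat.pos_of_ne_zero hm0)]

/-! ### commuting images -/

variable {H G : Type*} [Group H] [Group G]

/-- the image of a 3-element under an injective homomorphism and a central quotient keeps its order -/
theorem eq_one_of_map (π : H →* G) (hπ : π.ker ≤ center H) (f : Matrix.SpecialLinearGroup (Fin 2) F →* H)
    (hf : Function.Injective f) {y : Matrix.SpecialLinearGroup (Fin 2) F} {n : ℕ} (hy : y ^ 3 ^ n = 1)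
    {z : H} (hz : ∀ g, z * f g = f g * z) (h : π (f y) = π z) : y = 1 := by
  have h1 : z⁻¹ * f y ∈ center H := hπ (by
    rw [MonoidHom.mem_ker, map_mul, map_inv, h, inv_mul_cancel])
  refine eq_one_of_center (mem_center_iff.2 fun g => ?_) hy
  apply hf
  rw [map_mul, map_mul]
  have h2 := mem_center_iff.1 h1 (f g)
  have h3 : f y = z * (z⁻¹ * f y) := by group
  rw [h3, ← mul_assoc, ← hz g, mul_assoc, h2]
  group

theorem orderOf_map (π : H →* G) (hπ : π.ker ≤ center H) (f : Matrix.SpecialLinearGroup (Fin 2) F →* H)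
    (hf : Function.Injective f) {y : Matrix.SpecialLinearGroup (Fin 2) F} {n : ℕ} (hy : orderOf y = 3 ^ n) :
    orderOf (π (f y)) = 3 ^ n := by
  apply Nat.dvd_antisymm
  · rw [← hy]
    exact (orderOf_map_dvd π _).trans (orderOf_map_dvd f _)
  · have h1 : π (f (y ^ orderOf (π (f y)))) = π 1 := by
      rw [map_pow, map_pow, pow_orderOf_eq_one, map_one]
    have h2 := eq_one_of_map π hπ f hf (n := n) (y := y ^ orderOf (π (f y))) (by
      rw [← pow_mul, mul_comm, pow_mul, ← hy, pow_orderOf_eq_one, one_pow]) (z := 1) (by intro g; simp) h1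
    rw [← hy]
    exact orderOf_dvd_of_pow_eq_one h2

/-- one `SL₂` -/
theorem exists_one [Finite F] (h3 : (3 : F) ≠ 0) {n : ℕ} (hn : 3 ^ n ∣ Nat.card F ^ 2 - 1) (π : H →* G)
    (hπ : π.ker ≤ center H) (f : Matrix.SpecialLinearGroup (Fin 2) F →* H) (hf : Function.Injective f) :
    ∃ A : Subgroup G, (∀ a ∈ A, ∀ b ∈ A, a * b = b * a) ∧ Nat.card A = 3 ^ n ∧ ∃ a ∈ A, orderOf a = 3 ^ n := by
  obtain ⟨y, hy⟩ := exists_order h3 hn
  refine ⟨zpowers (π (f y)), ?_, ?_, π (f y), mem_zpowers _, orderOf_map π hπ f hf hy⟩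
  · intro a ha b hb
    obtain ⟨i, rfl⟩ := mem_zpowers_iff.1 ha
    obtain ⟨j, rfl⟩ := mem_zpowers_iff.1 hb
    rw [← _root_.zpow_add, ← _root_.zpow_add, add_comm]
  · rw [Nat.card_zpowers, orderOf_map π hπ f hf hy]

/-- two commuting `SL₂`'s -/
theorem exists_two {K : Type*} [Field K] [Finite F] [Finite K] (h3 : (3 : F) ≠ 0) (h3' : (3 : K) ≠ 0) {n m : ℕ}
    (hn : 3 ^ n ∣ Nat.card F ^ 2 - 1) (hm : 3 ^ m ∣ Nat.card K ^ 2 - 1) (π : H →* G)
    (hπ : π.ker ≤ center H) (f : Matrix.SpecialLinearGroup (Fin 2) F →* H) (hf : Function.Injective f)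
    (f' : Matrix.SpecialLinearGroup (Fin 2) K →* H) (hf' : Function.Injective f')
    (hc : ∀ a b, f a * f' b = f' b * f a) :
    ∃ A : Subgroup G, (∀ a ∈ A, ∀ b ∈ A, a * b = b * a) ∧ Nat.card A = 3 ^ n * 3 ^ m ∧
      (∃ a ∈ A, orderOf a = 3 ^ n) ∧ ∃ a ∈ A, orderOf a = 3 ^ m := by
  obtain ⟨y, hy⟩ := exists_order h3 hn
  obtain ⟨x, hx⟩ := exists_order h3' hm
  have hyo := orderOf_map π hπ f hf hy
  have hxo := orderOf_map π hπ f' hf' hx
  have hcp : ∀ a ∈ zpowers (π (f y)), ∀ b ∈ zpowers (π (f' x)), a * b = b * a := by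
    intro a ha b hb
    obtain ⟨i, rfl⟩ := mem_zpowers_iff.1 ha
    obtain ⟨j, rfl⟩ := mem_zpowers_iff.1 hb
    rw [← map_zpow, ← map_zpow, ← map_zpow, ← map_zpow, ← map_mul, ← map_mul, hc]
  have hz : ∀ {w : G}, ∀ a ∈ zpowers w, ∀ b ∈ zpowers w, a * b = b * a := by
    intro w a ha b hb
    obtain ⟨i, rfl⟩ := mem_zpowers_iff.1 ha
    obtain ⟨j, rfl⟩ := mem_zpowers_iff.1 hb
    rw [← _root_.zpow_add, ← _root_.zpow_add, add_comm]
  have hd : Disjoint (zpowers (π (f y))) (zpowers (π (f' x))) := by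
    rw [Subgroup.disjoint_def]
    intro a ha hb
    obtain ⟨i, rfl⟩ := mem_zpowers_iff.1 ha
    obtain ⟨j, hj⟩ := mem_zpowers_iff.1 hb
    have h1 : π (f (y ^ i)) = π (f' (x ^ j)) := by
      rw [map_zpow, map_zpow, map_zpow, map_zpow, hj]
    have h2 := eq_one_of_map π hπ f hf (n := n) (y := y ^ i) (by
      rw [← zpow_natCast, ← _root_.zpow_mul, mul_comm, _root_.zpow_mul, zpow_natCast, ← hy, pow_orderOf_eq_one, _root_.one_zpow])
      (fun g => (hc g (x ^ j)).symm) h1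
    rw [← map_zpow, ← map_zpow, h2, map_one, map_one]
  refine ⟨zpowers (π (f y)) ⊔ zpowers (π (f' x)), comm_sup hz hz hcp, ?_, ⟨_, mem_sup_left (mem_zpowers _), hyo⟩,
    ⟨_, mem_sup_right (mem_zpowers _), hxo⟩⟩
  rw [card_sup hcp hd, Nat.card_zpowers, Nat.card_zpowers, hyo, hxo]

end Cfsg.Agent.H356.SLTorus
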