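import Cfsg.Agent.H356.ThreeInv

/-!
# `SL₂` over a finite field: an element of order three inverted by another element (helper356)
-/

set_option autoImplicit false

namespace Cfsg.Agent.H356.SLTwo

open Matrix Cfsg.Agent.H356.ThreeInv

variable {F : Type*} [Field F]

/-- the companion matrix of `X² + X + 1` -/
def X3 (F : Type*) [Field F] : Matrix.SpecialLinearGroup (Fin 2) F := ⟨!![0, -1; 1, -1], by simp [det_fin_two]⟩

theorem X3_cube : X3 F ^ 3 = 1 := by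
  apply Subtype.ext
  change (!![0, -1; 1, -1] : Matrix (Fin 2) (Fin 2) F) ^ 3 = 1
  rw [pow_succ, pow_two]
  ext i j
  fin_cases i <;> fin_cases j <;> simp [Matrix.mul_apply, Fin.sum_univ_two]

theorem X3_ne_one : X3 F ≠ 1 := by
  intro h
  have := congrArg (fun A : Matrix.SpecialLinearGroup (Fin 2) F => A.1 1 0) h
  simp [X3] at this

theorem exists_norm [Finite F] (h3 : (3 : F) ≠ 0) : ∃ a b : F, a ^ 2 + a * b + b ^ 2 = -1 := by
  classical
  have := Fintype.ofFinite F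
  by_cases h2 : (2 : F) = 0
  · refine ⟨1, 0, ?_⟩
    linear_combination h2
  · -- `(a + b/2)² + (3/4) b² = -1`
    have hodd : ringChar F ≠ 2 := by
      intro h
      apply h2
      have := ringChar.Nat.cast_ringChar (R := F)
      rw [h] at this
      exact_mod_cast this
    have h4 : (4 : F) ≠ 0 := by
      have : (4 : F) = 2 * 2 := by norm_num
      rw [this]
      exact mul_ne_zero h2 h2
    obtain ⟨u, v, huv⟩ := FiniteField.exists_root_sum_quadratic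
      (f := Polynomial.C 1 * Polynomial.X ^ 2 + Polynomial.C 0 * Polynomial.X + Polynomial.C 0)
      (g := Polynomial.C (3 / 4 : F) * Polynomial.X ^ 2 + Polynomial.C 0 * Polynomial.X + Polynomial.C 1)
      (Polynomial.degree_quadratic one_ne_zero) (Polynomial.degree_quadratic (div_ne_zero h3 h4))
      (FiniteField.odd_card_of_char_ne_two hodd)
    simp only [Polynomial.eval_add, Polynomial.eval_mul, Polynomial.eval_C, Polynomial.eval_pow,
      Polynomial.eval_X] at huv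
    refine ⟨u - v / 2, v, ?_⟩
    field_simp at huv ⊢
    linear_combination huv

theorem exists_inv [Finite F] (h3 : (3 : F) ≠ 0) :
    ∃ T : Matrix.SpecialLinearGroup (Fin 2) F, T * X3 F * T⁻¹ = (X3 F)⁻¹ := by
  obtain ⟨a, b, hab⟩ := exists_norm h3
  let T : Matrix.SpecialLinearGroup (Fin 2) F := ⟨!![a, b; a + b, -a], by
    rw [det_fin_two]
    simp only [of_apply, cons_val', cons_val_zero, cons_val_one, cons_val_fin_one]
    linear_combination -hab⟩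
  refine ⟨T, ?_⟩
  rw [mul_inv_eq_iff_eq_mul]
  apply Subtype.ext
  have h1 : (((X3 F)⁻¹ : Matrix.SpecialLinearGroup (Fin 2) F) : Matrix (Fin 2) (Fin 2) F) = !![-1, 1; -1, 0] := by
    refine (Matrix.SpecialLinearGroup.coe_inv (X3 F)).trans ?_
    change adjugate (!![0, -1; 1, -1] : Matrix (Fin 2) (Fin 2) F) = _
    rw [adjugate_fin_two]
    ext i j
    fin_cases i <;> fin_cases j <;> simp
  change (!![a, b; a + b, -a] : Matrix (Fin 2) (Fin 2) F) * !![0, -1; 1, -1] =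
    (((X3 F)⁻¹ : Matrix.SpecialLinearGroup (Fin 2) F) : Matrix (Fin 2) (Fin 2) F) * !![a, b; a + b, -a]
  rw [h1]
  ext i j
  fin_cases i <;> fin_cases j <;> simp [Matrix.mul_apply, Fin.sum_univ_two] <;> ring

/-- three pairwise commuting images of `SL₂` -/
theorem threeInv_of_homs {H : Type*} [Group H] {K₀ K₁ K₂ : Type*} [Field K₀] [Field K₁] [Field K₂]
    [Finite K₀] [Finite K₁] [Finite K₂] (h₀ : (3 : K₀) ≠ 0) (h₁ : (3 : K₁) ≠ 0) (h₂ : (3 : K₂) ≠ 0)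
    (f₀ : Matrix.SpecialLinearGroup (Fin 2) K₀ →* H) (f₁ : Matrix.SpecialLinearGroup (Fin 2) K₁ →* H)
    (f₂ : Matrix.SpecialLinearGroup (Fin 2) K₂ →* H) (n₀ : f₀ (X3 K₀) ≠ 1) (n₁ : f₁ (X3 K₁) ≠ 1) (n₂ : f₂ (X3 K₂) ≠ 1)
    (c₀₁ : ∀ a b, f₀ a * f₁ b = f₁ b * f₀ a) (c₀₂ : ∀ a b, f₀ a * f₂ b = f₂ b * f₀ a)
    (c₁₂ : ∀ a b, f₁ a * f₂ b = f₂ b * f₁ a) : ThreeInv H := by
  obtain ⟨T₀, hT₀⟩ := exists_inv h₀
  obtain ⟨T₁, hT₁⟩ := exists_inv h₁
  obtain ⟨T₂, hT₂⟩ := exists_inv h₂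
  refine ⟨![f₀ (X3 K₀), f₁ (X3 K₁), f₂ (X3 K₂)], ![f₀ T₀, f₁ T₁, f₂ T₂], ?_, ?_, ?_, ?_, ?_⟩
  · intro i
    fin_cases i
    · change f₀ (X3 K₀) ^ 3 = 1
      rw [← map_pow, X3_cube, map_one]
    · change f₁ (X3 K₁) ^ 3 = 1
      rw [← map_pow, X3_cube, map_one]
    · change f₂ (X3 K₂) ^ 3 = 1
      rw [← map_pow, X3_cube, map_one]
  · intro i
    fin_cases i
    exacts [n₀, n₁, n₂]
  · intro i
    fin_cases i
    · change f₀ T₀ * f₀ (X3 K₀) * (f₀ T₀)⁻¹ = (f₀ (X3 K₀))⁻¹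
      rw [← map_mul, ← map_inv, ← map_mul, hT₀, map_inv]
    · change f₁ T₁ * f₁ (X3 K₁) * (f₁ T₁)⁻¹ = (f₁ (X3 K₁))⁻¹
      rw [← map_mul, ← map_inv, ← map_mul, hT₁, map_inv]
    · change f₂ T₂ * f₂ (X3 K₂) * (f₂ T₂)⁻¹ = (f₂ (X3 K₂))⁻¹
      rw [← map_mul, ← map_inv, ← map_mul, hT₂, map_inv]
  · intro i j
    fin_cases i <;> fin_cases j
    exacts [rfl, c₀₁ _ _, c₀₂ _ _, (c₀₁ _ _).symm, rfl, c₁₂ _ _, (c₀₂ _ _).symm, (c₁₂ _ _).symm, rfl]
  · intro i j hij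
    fin_cases i <;> fin_cases j
    exacts [absurd rfl hij, c₀₁ _ _, c₀₂ _ _, (c₀₁ _ _).symm, absurd rfl hij, c₁₂ _ _, (c₀₂ _ _).symm,
      (c₁₂ _ _).symm, absurd rfl hij]

end Cfsg.Agent.H356.SLTwo
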