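import Mathlib

/-!
# Products of commuting subgroups; pairwise commuting inverted elements of order three (helper356)
-/

set_option autoImplicit false

namespace Cfsg.Agent.H356.CommSup

open Subgroup

variable {G : Type*} [Group G]

/-- a subgroup whose elements commute -/
theorem isMulCommutative_iff {A : Subgroup G} : IsMulCommutative A ↔ ∀ a ∈ A, ∀ b ∈ A, a * b = b * a := by
  constructor
  · intro h a ha b hb
    have := h.is_comm.comm (⟨a, ha⟩ : A) ⟨b, hb⟩
    exact congrArg Subtype.val this
  · intro h
    exact ⟨⟨fun a b => Subtype.ext (h a a.2 b b.2)⟩⟩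

theorem comm_sup {A B : Subgroup G} (hA : ∀ a ∈ A, ∀ b ∈ A, a * b = b * a) (hB : ∀ a ∈ B, ∀ b ∈ B, a * b = b * a)
    (hAB : ∀ a ∈ A, ∀ b ∈ B, a * b = b * a) : ∀ a ∈ A ⊔ B, ∀ b ∈ A ⊔ B, a * b = b * a := by
  have h1 : A ⊔ B ≤ centralizer (A : Set G) := by
    refine sup_le ?_ ?_
    · intro a ha
      rw [mem_centralizer_iff]
      intro b hb
      exact hA b hb a ha
    · intro a ha
      rw [mem_centralizer_iff]
      intro b hb
      exact hAB b hb a ha
  have h2 : A ⊔ B ≤ centralizer (B : Set G) := by
    refine sup_le ?_ ?_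
    · intro a ha
      rw [mem_centralizer_iff]
      intro b hb
      exact (hAB a ha b hb).symm
    · intro a ha
      rw [mem_centralizer_iff]
      intro b hb
      exact hB b hb a ha
  intro a ha b hb
  have h3 : A ⊔ B ≤ centralizer ({a} : Set G) := by
    refine sup_le ?_ ?_
    · intro c hc
      rw [mem_centralizer_singleton_iff]
      have := mem_centralizer_iff.1 (h1 ha) c hc
      exact this
    · intro c hc
      rw [mem_centralizer_singleton_iff]
      have := mem_centralizer_iff.1 (h2 ha) c hc
      exact this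
  exact (mem_centralizer_singleton_iff.1 (h3 hb)).symm

theorem card_sup {A B : Subgroup G} (hAB : ∀ a ∈ A, ∀ b ∈ B, a * b = b * a) (hd : Disjoint A B) :
    Nat.card ↥(A ⊔ B) = Nat.card A * Nat.card B := by
  have hc : ∀ (m : A) (n : B), Commute (A.subtype m) (B.subtype n) := fun m n => hAB m m.2 n n.2
  have hi : Function.Injective (A.subtype.noncommCoprod B.subtype hc) := by
    rw [MonoidHom.noncommCoprod_injective]
    refine ⟨A.subtype_injective, B.subtype_injective, ?_⟩
    rw [Subgroup.range_subtype, Subgroup.range_subtype]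
    exact hd
  have hr : (A.subtype.noncommCoprod B.subtype hc).range = A ⊔ B := by
    rw [MonoidHom.noncommCoprod_range, Subgroup.range_subtype, Subgroup.range_subtype]
  rw [← hr, Nat.card_congr (MonoidHom.ofInjective hi).symm.toEquiv, Nat.card_prod]

end Cfsg.Agent.H356.CommSup
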