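import Cfsg.Agent.H356.SLTorus

/-!
# The criteria on a finite simple group used for `PSp₄(3)` (helper356)

`Crit G`: 3-local properties of `PSp₄(3)`; the other known simple groups do not have them (`H356/Kill*.lean`).
-/

set_option autoImplicit false

namespace Cfsg.Agent.H356

open Subgroup

/-- 3-local properties of `PSp₄(3)` -/
structure Crit (G : Type*) [Group G] : Prop where
  /-- an abelian subgroup of order divisible by 27 is elementary abelian of order 27 -/
  ab : ∀ A : Subgroup G, (∀ a ∈ A, ∀ b ∈ A, a * b = b * a) → 27 ∣ Nat.card A →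
    Nat.card A = 27 ∧ ∀ a ∈ A, a ^ 3 = 1
  /-- no abelian subgroup of order 27 is inverted -/
  inv : ∀ A : Subgroup G, (∀ a ∈ A, ∀ b ∈ A, a * b = b * a) → Nat.card A = 27 →
    ∀ g : G, ¬ ∀ a ∈ A, g * a * g⁻¹ = a⁻¹
  /-- an abelian subgroup of order 27 normalizes no 3'-subgroup -/
  sig : ∀ A : Subgroup G, (∀ a ∈ A, ∀ b ∈ A, a * b = b * a) → Nat.card A = 27 → ∀ K : Subgroup G,
    (Nat.card K).Coprime 3 → A ≤ normalizer (K : Set G) → K = ⊥
  dvd : 81 ∣ Nat.card G
  not_dvd : ¬ 243 ∣ Nat.card G
  /-- centralizers of 3-central elements of order 3 -/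
  cen : ∀ w : G, orderOf w = 3 → 81 ∣ Nat.card (centralizer ({w} : Set G)) →
    Nat.card (centralizer ({w} : Set G)) = 648 ∧ ∀ g : G, g * w * g⁻¹ ≠ w⁻¹

theorem card_comap {G H : Type*} [Group G] [Group H] (e : G ≃* H) (A : Subgroup H) :
    Nat.card (A.comap e.toMonoidHom) = Nat.card A :=
  Nat.card_congr
    { toFun := fun x => ⟨e x, x.2⟩
      invFun := fun x => ⟨e.symm x, by
        rw [mem_comap]
        change e (e.symm x) ∈ A
        rw [e.apply_symm_apply]
        exact x.2⟩
      left_inv := fun x => Subtype.ext (e.symm_apply_apply _)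
      right_inv := fun x => Subtype.ext (e.apply_symm_apply _) }

namespace Crit

variable {G : Type*} [Group G]

theorem not_threeInv (h : Crit G) (h3 : ThreeInv.ThreeInv G) : False := by
  obtain ⟨A, hA, hc, g, hg⟩ := h3.exists_subgroup
  exact h.inv A hA hc g hg

theorem not_eighty (h : Crit G) {A : Subgroup G} (hA : ∀ a ∈ A, ∀ b ∈ A, a * b = b * a)
    (hc : Nat.card A = 81) : False := by
  have := (h.ab A hA (by rw [hc]; norm_num)).1
  omega

theorem not_nine (h : Crit G) {A : Subgroup G} (hA : ∀ a ∈ A, ∀ b ∈ A, a * b = b * a)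
    (hc : Nat.card A = 27) {a : G} (ha : a ∈ A) (ho : orderOf a = 9) : False := by
  have h1 := (h.ab A hA (by rw [hc])).2 a ha
  have h2 := orderOf_dvd_of_pow_eq_one h1
  rw [ho] at h2
  exact absurd (Nat.le_of_dvd (by norm_num) h2) (by norm_num)

theorem of_equiv {H : Type*} [Group H] (e : G ≃* H) (h : Crit G) : Crit H where
  ab A hA hd := by
    have hA' : ∀ a ∈ A.comap e.toMonoidHom, ∀ b ∈ A.comap e.toMonoidHom, a * b = b * a := by
      intro a ha b hb
      have := hA (e a) ha (e b) hb
      rw [← map_mul, ← map_mul] at this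
      exact e.injective this
    have hcard : Nat.card (A.comap e.toMonoidHom) = Nat.card A :=
      card_comap e A
    have h1 := h.ab _ hA' (by rw [hcard]; exact hd)
    refine ⟨by rw [← hcard]; exact h1.1, fun a ha => ?_⟩
    have h2 := h1.2 (e.symm a) (by
      rw [mem_comap]
      change e (e.symm a) ∈ A
      rw [e.apply_symm_apply]
      exact ha)
    rw [← map_pow] at h2
    exact e.symm.injective (h2.trans (map_one _).symm)
  inv A hA hc g hg := by
    have hA' : ∀ a ∈ A.comap e.toMonoidHom, ∀ b ∈ A.comap e.toMonoidHom, a * b = b * a := by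
      intro a ha b hb
      have := hA (e a) ha (e b) hb
      rw [← map_mul, ← map_mul] at this
      exact e.injective this
    have hcard : Nat.card (A.comap e.toMonoidHom) = Nat.card A :=
      card_comap e A
    refine h.inv _ hA' (hcard.trans hc) (e.symm g) fun a ha => ?_
    apply e.injective
    rw [map_mul, map_mul, map_inv, map_inv, e.apply_symm_apply]
    exact hg _ ha
  sig A hA hc K hK hn := by
    have hA' : ∀ a ∈ A.comap e.toMonoidHom, ∀ b ∈ A.comap e.toMonoidHom, a * b = b * a := by
      intro a ha b hb
      have := hA (e a) ha (e b) hb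
      rw [← map_mul, ← map_mul] at this
      exact e.injective this
    have hcard : Nat.card (A.comap e.toMonoidHom) = Nat.card A :=
      card_comap e A
    have hcardK : Nat.card (K.comap e.toMonoidHom) = Nat.card K :=
      card_comap e K
    have h1 := h.sig _ hA' (hcard.trans hc) (K.comap e.toMonoidHom) (by rw [hcardK]; exact hK) (by
      intro a ha
      have h2 := hn ha
      rw [Subgroup.mem_normalizer_iff] at h2 ⊢
      intro b
      have h3 := h2 (e b)
      rw [mem_comap, mem_comap]
      change e b ∈ K ↔ e (a * b * a⁻¹) ∈ K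
      rw [map_mul, map_mul, map_inv]
      exact h3)
    rw [eq_bot_iff]
    intro x hx
    have h2 : e.symm x ∈ K.comap e.toMonoidHom := by
      rw [mem_comap]
      change e (e.symm x) ∈ K
      rw [e.apply_symm_apply]
      exact hx
    rw [h1, mem_bot] at h2
    rw [mem_bot]
    exact (map_eq_one_iff _ e.symm.injective).1 h2
  dvd := by
    rw [← Nat.card_congr e.toEquiv]
    exact h.dvd
  not_dvd := by
    rw [← Nat.card_congr e.toEquiv]
    exact h.not_dvd
  cen w hw hd := by
    have hcard : Nat.card (centralizer ({e.symm w} : Set G)) = Nat.card (centralizer ({w} : Set H)) := by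
      have : centralizer ({e.symm w} : Set G) = (centralizer ({w} : Set H)).comap e.toMonoidHom := by
        ext x
        rw [mem_comap, mem_centralizer_singleton_iff, mem_centralizer_singleton_iff]
        change _ ↔ e x * w = w * e x
        constructor
        · intro h1
          have := congrArg e h1
          rwa [map_mul, map_mul, e.apply_symm_apply] at this
        · intro h1
          apply e.injective
          rwa [map_mul, map_mul, e.apply_symm_apply]
      rw [this]
      exact card_comap e _
    have h1 := h.cen (e.symm w) (by rw [MulEquiv.orderOf_eq]; exact hw) (by rw [hcard]; exact hd)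
    refine ⟨by rw [← hcard]; exact h1.1, fun g hg => h1.2 (e.symm g) ?_⟩
    rw [← map_inv, ← map_mul, ← map_mul, hg, map_inv]

end Crit

end Cfsg.Agent.H356
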