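import Cfsg.Agent.H160.QFinal
import Cfsg.Agent.H160.QModel
import Cfsg.Agent.S0242

/-!
# Large cyclic subgroups of even-dimensional orthogonal groups in odd characteristic (helper356)

* `exists_torus` : if `4 ∣ d`, `0 < d < m`, then `PΩ(Q)`, `Q` nondegenerate of dimension `2m` over a field of odd order `u`, has
  an element of order `u ^ d - 1` (the exact 2-part; no squares are taken).
-/

set_option autoImplicit false

namespace Cfsg.Agent.H356.OrthTorus

open QuadraticMap Module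
open Cfsg.Agent.LieClassical.OrthCore Cfsg.Agent.LieClassical.OrthFinite Cfsg.Agent.LieClassical.OrthForms
  Cfsg.Agent.H160.QSpin Cfsg.Agent.H160.QDisc Cfsg.Agent.H160.QSplit
  Cfsg.Agent.H160.QReal Cfsg.Agent.H160.QMain Cfsg.Agent.H160.QSemi Cfsg.Agent.H160.QModel Cfsg.Agent.H160.QFinal

variable {F : Type*} [Field F] [Fintype F] [DecidableEq F]

omit [DecidableEq F] in
theorem card_SL2 : Nat.card (Matrix.SpecialLinearGroup (Fin 2) F) =
    Fintype.card F * (Fintype.card F ^ 2 - 1) := by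
  have h1 := S0242.result (F := F) rfl 2 (by norm_num)
  have hq : 2 ≤ Fintype.card F := Fintype.one_lt_card
  rw [Fin.prod_univ_two] at h1
  have h3 : Fintype.card F ^ 2 - Fintype.card F ^ 1 = (Fintype.card F - 1) * Fintype.card F := by
    rw [Nat.sub_mul, one_mul, pow_one, pow_two]
  simp only [Fin.val_zero, Fin.val_one, pow_zero] at h1
  rw [h3] at h1
  have h4 : (Fintype.card F - 1) * Nat.card (Matrix.SpecialLinearGroup (Fin 2) F) =
      (Fintype.card F - 1) * (Fintype.card F * (Fintype.card F ^ 2 - 1)) := by rw [h1]; ring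
  exact Nat.eq_of_mul_eq_mul_left (by omega) h4

/-- a linear automorphism of the plane of determinant one and order a power of two has order dividing `u ^ 2 - 1` -/
theorem plane_order (h2 : (2 : F) ≠ 0) {g : (Fin 2 → F) ≃ₗ[F] (Fin 2 → F)} (hd : LinearEquiv.det g = 1) {a : ℕ}
    (ho : orderOf g = 2 ^ a) : g ^ (Fintype.card F ^ 2 - 1) = 1 := by
  let φ : ((Fin 2 → F) ≃ₗ[F] (Fin 2 → F)) →* Matrix (Fin 2) (Fin 2) F :=
    { toFun := fun g => LinearMap.toMatrix' (g : (Fin 2 → F) →ₗ[F] (Fin 2 → F))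
      map_one' := LinearMap.toMatrix'_one
      map_mul' := fun g h => LinearMap.toMatrix'_mul _ _ }
  have hinj : Function.Injective φ := by
    intro g h hgh
    apply LinearEquiv.toLinearMap_injective
    exact LinearMap.toMatrix'.injective hgh
  have hdet : (φ g).det = 1 := by
    show (LinearMap.toMatrix' (g : (Fin 2 → F) →ₗ[F] (Fin 2 → F))).det = 1
    rw [LinearMap.det_toMatrix', ← LinearEquiv.coe_det, hd]
    rfl
  let A : Matrix.SpecialLinearGroup (Fin 2) F := ⟨φ g, hdet⟩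
  have hA : ∀ k : ℕ, A ^ k = 1 ↔ g ^ k = 1 := by
    intro k
    constructor
    · intro h
      have h1 := congrArg Subtype.val h
      rw [Matrix.SpecialLinearGroup.coe_pow] at h1
      apply hinj
      rw [map_pow, map_one]
      exact h1
    · intro h
      apply Subtype.ext
      rw [Matrix.SpecialLinearGroup.coe_pow]
      show φ g ^ k = 1
      rw [← map_pow, h, map_one]
  have h1 : orderOf A = 2 ^ a := by
    rw [← ho]
    exact orderOf_eq_orderOf_iff.2 hA
  have h3 : 2 ^ a ∣ Fintype.card F * (Fintype.card F ^ 2 - 1) := by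
    have h4 := orderOf_dvd_natCard A
    rwa [h1, card_SL2] at h4
  have h4 : Nat.Coprime (2 ^ a) (Fintype.card F) := by
    apply Nat.Coprime.pow_left
    rw [Nat.coprime_two_left]
    obtain ⟨e, he⟩ := H160.QUpper.card_odd_eq (F := F) h2
    exact ⟨e, he⟩
  apply orderOf_dvd_iff_pow_eq_one.1
  rw [ho]
  exact h4.dvd_of_dvd_mul_left h3

/-- the small factor: a space of dimension `2 n`, `n ≥ 1`, class `c`, with an element of sign `s` whose order divides `u ^ 2 - 1` -/
theorem exists_small (h2 : (2 : F) ≠ 0) {n : ℕ} (hn : 1 ≤ n) {c : ℤ} (hc : c = 1 ∨ c = -1) (s : ℤˣ) :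
    ∃ N, N ∣ Fintype.card F ^ 2 - 1 ∧ N ≠ 0 ∧ Rz F (2 * n) c s N := by
  obtain ⟨N, hN0, Q, g, hQ, hdc, hg, hN⟩ := rz_plane h2 hc s
  obtain ⟨a, b, hb, hab⟩ := Nat.exists_eq_two_pow_mul_odd hN0
  have hs : s ^ b = s := by
    obtain ⟨k, rfl⟩ := hb
    rw [pow_succ, pow_mul, Int.units_sq, one_pow, one_mul]
  have hb0 : b ≠ 0 := by rintro rfl; simp at hb
  have h1 : orderOf (g ^ b) = 2 ^ a := by
    rw [orderOf_pow' _ hb0, hN, hab, Nat.gcd_mul_left_left, Nat.mul_div_cancel _ (Nat.pos_of_ne_zero hb0)]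
  have h3 : El Q s (g ^ b) := by
    have := hg.pow b
    rwa [hs] at this
  have h4 : g ^ b ^ 1 = g ^ b := by rw [pow_one]
  have h5 := plane_order h2 h3.2.1 h1
  have h6 : Rz F 2 c s (2 ^ a) := ⟨Q, g ^ b, hQ, hdc, h3, h1⟩
  have h7 : 2 ^ a ∣ Fintype.card F ^ 2 - 1 := by
    rw [← h1]
    exact orderOf_dvd_of_pow_eq_one h5
  refine ⟨2 ^ a, h7, by positivity, ?_⟩
  rcases Nat.lt_or_ge 1 n with h8 | h8
  · have h9 := h6.add h2 (rz_one (F := F) h2 (n := 2 * (n - 1)) (by omega) (Or.inl rfl))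
    rw [mul_one, mul_one, Nat.lcm_one_right] at h9
    rwa [show 2 + 2 * (n - 1) = 2 * n by omega] at h9
  · rwa [show 2 * n = 2 by omega]

/-- **the torus** -/
theorem exists_torus (h2 : (2 : F) ≠ 0) {ι : Type} [Fintype ι] [DecidableEq ι] {Q : QuadraticForm F (ι → F)}
    (hQ : Nondeg Q) {m d : ℕ} (hn : Fintype.card ι = 2 * m) (hd4 : 4 ∣ d) (hd0 : 0 < d) (hdm : d < m) :
    ∃ g : Cfsg.POmega F ⇑Q, orderOf g = Fintype.card F ^ d - 1 := by
  obtain ⟨s, Q₁, g₁, a1, a2, a3, a4⟩ := rz_split (F := F) (d := d) hd0.ne'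
  obtain ⟨N₂, hN₂, hN₂0, Q₂, g₂, b1, b2, b3, b4⟩ := exists_small (F := F) h2 (n := m - d) (by omega) (dc_cases hQ) s
  have hclass : quadraticChar F (-1) ^ d = 1 := by
    obtain ⟨e, rfl⟩ := hd4
    rw [show 4 * e = 2 * (2 * e) by ring, pow_mul, quadraticChar_sq_one (neg_ne_zero.2 one_ne_zero), one_pow]
  set u := Fintype.card F with hu
  have hu1 : 1 < u := Fintype.one_lt_card
  -- arithmetic: `2 (u² - 1) ∣ u ^ d - 1`
  have hodd : Odd u := by
    obtain ⟨e, he⟩ := H160.QUpper.card_odd_eq (F := F) h2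
    exact ⟨e, he⟩
  have harith : 2 * (u ^ 2 - 1) ∣ u ^ d - 1 := by
    obtain ⟨e, rfl⟩ := hd4
    have h5 : u ^ 4 - 1 ∣ u ^ (4 * e) - 1 := by
      rw [pow_mul]
      exact Nat.sub_one_dvd_pow_sub_one _ _
    refine Dvd.dvd.trans ?_ h5
    have h6 : u ^ 4 - 1 = (u ^ 2 + 1) * (u ^ 2 - 1) := by
      have := Nat.sq_sub_sq (u ^ 2) 1
      rw [one_pow, ← pow_mul] at this
      exact this
    rw [h6]
    exact Nat.mul_dvd_mul_right ((hodd.pow).add_one.two_dvd) _
  have hpos : 0 < u ^ d - 1 := by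
    have := Nat.one_lt_pow hd0.ne' hu1
    omega
  have hel := El.pr h2 a1 b1 a3 b3
  have hnd := nondeg_prod a1 b1
  have hdc : dc (Q₁.prod Q₂) = dc Q := by rw [dc_prod, a2, b2, hclass, one_mul]
  have hss : s * s = 1 := Int.units_mul_self s
  rw [hss] at hel
  obtain ⟨e, he⟩ := exists_iso h2 hnd hQ (by
    rw [finrank_prod, finrank_fintype_fun_eq_card, finrank_fintype_fun_eq_card, finrank_fintype_fun_eq_card, Fintype.card_fin,
      Fintype.card_fin, hn]
    omega) hdc
  set g := cj e (pr g₁ g₂) with hg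
  have hEl : El Q 1 g := hel.cj he
  have h5 : 5 ≤ Fintype.card ι := by
    obtain ⟨k, hk⟩ := hd4
    omega
  obtain ⟨x, hx⟩ := exists_lin h2 hQ h5 hEl
  have hN : N₂ ∣ u ^ d - 1 := hN₂.trans ((Dvd.intro_left _ rfl).trans harith)
  have hord : orderOf g = u ^ d - 1 := by
    rw [hg, orderOf_cj, orderOf_pr, a4, b4]
    exact Nat.lcm_eq_left hN
  -- no power is `-1`
  have hneg : ∀ k : ℕ, g ^ k ≠ LinearEquiv.neg F := by
    intro k hk
    have h6 : (pr g₁ g₂) ^ k = LinearEquiv.neg F := by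
      have h7 : cj e ((pr g₁ g₂) ^ k) = cj e (LinearEquiv.neg F) := by
        rw [cj_pow, ← hg, hk, cj_neg]
      exact (cjEquiv e).injective h7
    rw [pr_pow, ← pr_neg] at h6
    have h7 : ((g₁ ^ k, g₂ ^ k) : _ × _) = (LinearEquiv.neg F, LinearEquiv.neg F) := prHom_injective h6
    rw [Prod.mk.injEq] at h7
    have h8 : g₁ ^ (k * 2) = 1 := by rw [pow_mul, h7.1, H160.QUpper.neg_pow_two]
    have h9 : u ^ d - 1 ∣ k * 2 := by
      rw [← a4]
      exact orderOf_dvd_of_pow_eq_one h8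
    have h10 : u ^ 2 - 1 ∣ k := by
      have := harith.trans h9
      rw [mul_comm k 2] at this
      exact Nat.dvd_of_mul_dvd_mul_left (by norm_num) this
    have h11 : g₂ ^ k = 1 := by
      apply orderOf_dvd_iff_pow_eq_one.1
      rw [b4]
      exact hN₂.trans h10
    have h12 : (LinearEquiv.neg F : (Fin (2 * (m - d)) → F) ≃ₗ[F] (Fin (2 * (m - d)) → F)) = 1 := by
      rw [← h7.2, h11]
    have h13 := congrFun (congrArg (fun g : (Fin (2 * (m - d)) → F) ≃ₗ[F] (Fin (2 * (m - d)) → F) => g (fun _ => 1)) h12)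
      ⟨0, by omega⟩
    have h14 : (-1 : F) = 1 := h13
    apply h2
    have : (2 : F) = 1 - (-1) := by norm_num
    rw [this, h14, sub_self]
  have hG := good_of_finite hQ (by rwa [finrank_fintype_fun_eq_card])
  obtain ⟨w, hw0, hw⟩ := hG.sing
  refine ⟨QuotientGroup.mk x, ?_⟩
  rw [← hord]
  apply orderOf_eq_orderOf_iff.2
  intro k
  rw [← QuotientGroup.mk_pow, QuotientGroup.eq_one_iff,
    Cfsg.Agent.LieClassical.OrthCenter.mem_center_omega_iff (nondeg_bilin hQ) (by omega) ⟨w, hw0, hw⟩]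
  have hlin : ∀ v, (((x ^ k : Cfsg.Omega F ⇑Q) : Cfsg.isometryGroup F ⇑Q) : Matrix.GeneralLinearGroup ι F).1.mulVec v =
      (g ^ k) v := by
    intro v
    rw [← hx, ← map_pow]
    rfl
  constructor
  · rintro (h | h)
    · apply LinearEquiv.ext
      intro v
      rw [← hlin, h, Matrix.one_mulVec]
      rfl
    · exfalso
      apply hneg k
      apply LinearEquiv.ext
      intro v
      rw [← hlin, h, Matrix.neg_mulVec, Matrix.one_mulVec]
      rfl
  · intro h
    left
    have h6 : lin Q (x ^ k) = 1 := by rw [map_pow, hx, h]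
    have h7 : x ^ k = 1 := lin_injective Q (by rw [h6, map_one])
    rw [h7]
    rfl

end Cfsg.Agent.H356.OrthTorus
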