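import Cfsg.Agent.H356.CommSup

/-!
# Three pairwise commuting pairs (x_i, t_i), x_i of order three inverted by t_i (helper356)
-/

set_option autoImplicit false

namespace Cfsg.Agent.H356.ThreeInv

open Subgroup Cfsg.Agent.H356.CommSup

/-- three commuting elements of order three, the `i`-th inverted by an element centralizing the others -/
def ThreeInv (G : Type*) [Group G] : Prop :=
  ∃ x t : Fin 3 → G, (∀ i, x i ^ 3 = 1) ∧ (∀ i, x i ≠ 1) ∧ (∀ i, t i * x i * (t i)⁻¹ = (x i)⁻¹) ∧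
    (∀ i j, x i * x j = x j * x i) ∧ ∀ i j, i ≠ j → t i * x j = x j * t i

theorem eq_one_of {G : Type*} [Group G] {a : G} (h3 : a ^ 3 = 1) (h : a = a⁻¹) : a = 1 := by
  have h2 : a * a = 1 := by
    nth_rewrite 1 [h]
    exact inv_mul_cancel a
  have : a ^ 3 = a := by rw [pow_succ, pow_two, h2, one_mul]
  rw [← this, h3]

theorem cube_of_mem {G : Type*} [Group G] {x a : G} (h3 : x ^ 3 = 1) (ha : a ∈ zpowers x) : a ^ 3 = 1 := by
  obtain ⟨k, rfl⟩ := mem_zpowers_iff.1 ha
  rw [← zpow_natCast, ← zpow_mul, mul_comm, zpow_mul, zpow_natCast, h3, one_zpow]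

theorem inv_of_mem {G : Type*} [Group G] {x t a : G} (h : t * x * t⁻¹ = x⁻¹) (ha : a ∈ zpowers x) :
    t * a * t⁻¹ = a⁻¹ := by
  obtain ⟨k, rfl⟩ := mem_zpowers_iff.1 ha
  have h1 : t * x ^ k * t⁻¹ = (t * x * t⁻¹) ^ k := by
    have := map_zpow (MulAut.conj t) x k
    simpa [MulAut.conj_apply] using this
  rw [h1, h, inv_zpow]

theorem comm_of_mem {G : Type*} [Group G] {x t a : G} (h : t * x = x * t) (ha : a ∈ zpowers x) :
    t * a = a * t := by
  obtain ⟨k, rfl⟩ := mem_zpowers_iff.1 ha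
  exact (Commute.zpow_right h k)

theorem card_zpowers {G : Type*} [Group G] {x : G} (h3 : x ^ 3 = 1) (h1 : x ≠ 1) : Nat.card (zpowers x) = 3 := by
  rw [Nat.card_zpowers]
  exact orderOf_eq_prime h3 h1

theorem ThreeInv.exists_subgroup {G : Type*} [Group G] (h : ThreeInv G) :
    ∃ A : Subgroup G, (∀ a ∈ A, ∀ b ∈ A, a * b = b * a) ∧ Nat.card A = 27 ∧ ∃ g : G, ∀ a ∈ A, g * a * g⁻¹ = a⁻¹ := by
  obtain ⟨x, t, hx3, hx1, hinv, hxx, htx⟩ := h
  have czp : ∀ i j, ∀ a ∈ zpowers (x i), ∀ b ∈ zpowers (x j), a * b = b * a := by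
    intro i j a ha b hb
    have h1 : a * x j = x j * a := (comm_of_mem (hxx i j).symm ha).symm
    exact comm_of_mem h1 hb
  have d01 : Disjoint (zpowers (x 0)) (zpowers (x 1)) := by
    rw [Subgroup.disjoint_def]
    intro a ha hb
    refine eq_one_of (cube_of_mem (hx3 0) ha) ?_
    have h1 := inv_of_mem (hinv 0) ha
    have h2 := comm_of_mem (htx 0 1 (by decide)) hb
    rw [h2, mul_inv_cancel_right] at h1
    exact h1
  set A := zpowers (x 0) ⊔ zpowers (x 1) with hA
  have cA : ∀ a ∈ A, ∀ b ∈ A, a * b = b * a :=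
    comm_sup (czp 0 0) (czp 1 1) (czp 0 1)
  have cA2 : ∀ a ∈ A, ∀ b ∈ zpowers (x 2), a * b = b * a := by
    intro a ha b hb
    have h1 : A ≤ centralizer ({b} : Set G) := by
      refine sup_le ?_ ?_
      · intro c hc
        rw [mem_centralizer_singleton_iff]
        exact czp 0 2 c hc b hb
      · intro c hc
        rw [mem_centralizer_singleton_iff]
        exact czp 1 2 c hc b hb
    exact (mem_centralizer_singleton_iff.1 (h1 ha))
  have d2 : Disjoint A (zpowers (x 2)) := by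
    rw [Subgroup.disjoint_def]
    intro a ha hb
    refine eq_one_of (cube_of_mem (hx3 2) hb) ?_
    have h1 := inv_of_mem (hinv 2) hb
    have h2 : A ≤ centralizer ({t 2} : Set G) := by
      refine sup_le ?_ ?_
      · intro c hc
        rw [mem_centralizer_singleton_iff]
        exact (comm_of_mem (htx 2 0 (by decide)) hc).symm
      · intro c hc
        rw [mem_centralizer_singleton_iff]
        exact (comm_of_mem (htx 2 1 (by decide)) hc).symm
    have h3 := mem_centralizer_singleton_iff.1 (h2 ha)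
    rw [← h3, mul_inv_cancel_right] at h1
    exact h1
  refine ⟨A ⊔ zpowers (x 2), comm_sup cA (czp 2 2) cA2, ?_, t 0 * t 1 * t 2, ?_⟩
  · rw [card_sup cA2 d2, hA, card_sup (czp 0 1) d01, card_zpowers (hx3 0) (hx1 0), card_zpowers (hx3 1) (hx1 1),
      card_zpowers (hx3 2) (hx1 2)]
  · have key : ∀ i, (t 0 * t 1 * t 2) * x i * (t 0 * t 1 * t 2)⁻¹ = (x i)⁻¹ := by
      intro i
      have e : ∀ y : G, (t 0 * t 1 * t 2) * y * (t 0 * t 1 * t 2)⁻¹ =
          t 0 * (t 1 * (t 2 * y * (t 2)⁻¹) * (t 1)⁻¹) * (t 0)⁻¹ := by intro y; group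
      have c : ∀ i j, i ≠ j → t i * (x j) * (t i)⁻¹ = x j := by
        intro i j hij
        rw [htx i j hij, mul_inv_cancel_right]
      have c' : ∀ i j, i ≠ j → t i * (x j)⁻¹ * (t i)⁻¹ = (x j)⁻¹ := by
        intro i j hij
        have := congrArg (·⁻¹) (c i j hij)
        simpa [mul_assoc] using this
      rw [e]
      fin_cases i
      · change t 0 * (t 1 * (t 2 * x 0 * (t 2)⁻¹) * (t 1)⁻¹) * (t 0)⁻¹ = (x 0)⁻¹
        rw [c 2 0 (by decide), c 1 0 (by decide), hinv 0]
      · change t 0 * (t 1 * (t 2 * x 1 * (t 2)⁻¹) * (t 1)⁻¹) * (t 0)⁻¹ = (x 1)⁻¹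
        rw [c 2 1 (by decide), hinv 1, c' 0 1 (by decide)]
      · change t 0 * (t 1 * (t 2 * x 2 * (t 2)⁻¹) * (t 1)⁻¹) * (t 0)⁻¹ = (x 2)⁻¹
        rw [hinv 2, c' 1 2 (by decide), c' 0 2 (by decide)]
    set g := t 0 * t 1 * t 2
    have cB := comm_sup cA (czp 2 2) cA2
    let S : Subgroup G :=
      { carrier := {a | a ∈ A ⊔ zpowers (x 2) ∧ g * a * g⁻¹ = a⁻¹}
        mul_mem' := by
          rintro a b ⟨ha, ha'⟩ ⟨hb, hb'⟩
          refine ⟨mul_mem ha hb, ?_⟩
          have h1 : g * (a * b) * g⁻¹ = (g * a * g⁻¹) * (g * b * g⁻¹) := by group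
          rw [h1, ha', hb', ← mul_inv_rev, cB b hb a ha]
        one_mem' := ⟨one_mem _, by group⟩
        inv_mem' := by
          rintro a ⟨ha, ha'⟩
          refine ⟨inv_mem ha, ?_⟩
          have h1 : g * a⁻¹ * g⁻¹ = (g * a * g⁻¹)⁻¹ := by group
          rw [h1, ha'] }
    have hS : A ⊔ zpowers (x 2) ≤ S := by
      refine sup_le (sup_le ?_ ?_) ?_
      · rw [zpowers_le]
        exact ⟨mem_sup_left (mem_sup_left (mem_zpowers _)), key 0⟩
      · rw [zpowers_le]
        exact ⟨mem_sup_left (mem_sup_right (mem_zpowers _)), key 1⟩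
      · rw [zpowers_le]
        exact ⟨mem_sup_right (mem_zpowers _), key 2⟩
    exact fun a ha => (hS ha).2

theorem ThreeInv.map {H G : Type*} [Group H] [Group G] (π : H →* G) (hπ : π.ker ≤ center H) (h : ThreeInv H) :
    ThreeInv G := by
  obtain ⟨x, t, hx3, hx1, hinv, hxx, htx⟩ := h
  refine ⟨fun i => π (x i), fun i => π (t i), ?_, ?_, ?_, ?_, ?_⟩
  · intro i
    change π (x i) ^ 3 = 1
    rw [← map_pow, hx3, map_one]
  · intro i hi
    have h1 : x i ∈ center H := hπ hi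
    have h2 := hinv i
    rw [mem_center_iff.1 h1 (t i), mul_inv_cancel_right] at h2
    exact hx1 i (eq_one_of (hx3 i) h2)
  · intro i
    change π (t i) * π (x i) * (π (t i))⁻¹ = (π (x i))⁻¹
    rw [← map_mul, ← map_inv, ← map_mul, hinv, map_inv]
  · intro i j
    change π (x i) * π (x j) = π (x j) * π (x i)
    rw [← map_mul, hxx, map_mul]
  · intro i j hij
    change π (t i) * π (x j) = π (x j) * π (t i)
    rw [← map_mul, htx i j hij, map_mul]

theorem ThreeInv.of_equiv {H G : Type*} [Group H] [Group G] (e : H ≃* G) (h : ThreeInv H) : ThreeInv G :=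
  h.map e.toMonoidHom (by
    intro x hx
    have : e x = 1 := hx
    rw [(map_eq_one_iff e e.injective).1 this]
    exact one_mem _)

theorem ThreeInv.quot {H : Type*} [Group H] (h : ThreeInv H) : ThreeInv (H ⧸ center H) :=
  h.map (QuotientGroup.mk' (center H)) (by rw [QuotientGroup.ker_mk'])

end Cfsg.Agent.H356.ThreeInv
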